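import Cfsg.Agent.UGT.I34.FiveC.Five
import Cfsg.Agent.UGT.I34.HeP.Bal

/-!
# THEOREM I34, part [C] (`Z = 2²`), (5.5) and its consequences

* `isBig_of_pair`: **(5.5)**: a type (0) partner `s ∉ X` is big;
* `prod`: `s w` is not the involution of a pair (`w` in the vessel);
* `cls`: the involutions of pairs in a big pump-up are conjugate to `u`;
* `cen5`: commuting type (0) partners `s, j ∉ X`: `j` fixes the pump-up at `s`.
-/

set_option autoImplicit false

open Cfsg Subgroup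
open Cfsg.Agent.SignalizersComponents Cfsg.Agent.Lib
open Cfsg.Agent.SignalizersComponents.IntrinsicBasic
open Cfsg.Agent.SignalizersComponents.PLayerAut
open Cfsg.Agent.Intrinsic
open Cfsg.Agent.Intrinsic.Basic hiding IsPair PQS Target IsPair.sq IsPair.ne_one IsPair.cj
open Cfsg.Agent.Intrinsic.Cen hiding pair_comm pair_mem_cen exists_pump pump_unique
open Cfsg.Agent.Intrinsic.Quot hiding Big isPair_quot small_or_big
open Cfsg.Agent.McLLyComp.Act hiding mk_eq_one_iff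
open Cfsg.Agent.UGT.I34.Pair Cfsg.Agent.UGT.I34.KAut Cfsg.Agent.UGT.I34.WOne
open Cfsg.Agent.UGT.I34.KF (NInv)
open Cfsg.Agent.UGT.I34.Four
open Cfsg.Agent.UGT.I34.HeP.Bal (AutL)
open scoped commutatorElement

namespace Cfsg.Agent.UGT.I34.FiveC

universe v

/-- (HE0): the involutions of `He` -/
def HeTwo (κ : Kind.{v}) : Prop :=
  ∀ {Y : Type v} [Group Y] [Finite Y] {z : Y} {L : Subgroup Y}, κ.T Y z L → IsPair κ z L →
    ∀ t : Y, t * t = 1 → t ≠ 1 → (∃ g, g * z * g⁻¹ = t) ∨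
      ∃ g, ∃ ht : g * t * g⁻¹ ∈ L, ¬ Can (QuotientGroup.mk ⟨g * t * g⁻¹, ht⟩ : ↥L ⧸ oddCore ↥L) ∧
        ∃ l ∈ L, l * (g * t * g⁻¹) ≠ (g * t * g⁻¹) * l

variable {G : Type v} [Group G] [Finite G] {κ : Kind.{v}} {u t x w s y j : G} {X Y S M V : Subgroup G}

theorem big_nf (h : W5 κ G) (hu : IsPair κ u X) (hxx : x * x = 1) (hx : x * u = u * x)
    (hf : Fixes x X) (hb : IsBig κ u X x) {a : G} (ha : a ∈ pump x X) (haa : a * a = 1)
    (ha1 : a ≠ 1) : ¬ Fixes a (pump x X) :=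
  h.w.sett.big_not_fixes hb hu.inv (pair_mem_cen hu hx) (isComp_cen_pump hu hxx hx hf)
    ((kind_cen hu.comp (mem_centralizer_singleton_iff.mpr hx) hxx hf).mpr hu.kind)
    (pump_comp hu hxx hx hf) (cen_le_pump hu hxx hx hf) ha haa ha1

/-- **(5.5)** -/
theorem isBig_of_pair (h : W5 κ G) (hu : IsPair κ u X) (hs : IsPair κ s S) (hsu : s * u = u * s)
    (hf : Fixes s X) (hsX : s ∉ X) : IsBig κ u X s := by
  have hV := isPGroup_two hs.sq hs.sq rfl
  obtain ⟨t, Y, hT, hcom⟩ := h.exists_t hu hV (fixes_closure (by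
    rintro a (rfl | rfl) <;> exact hf))
  have hsV : s ∈ closure ({s, s} : Set G) := subset_closure (Or.inl rfl)
  have hst := hcom s hsV
  have hVu : ∀ a ∈ closure ({s, s} : Set G), a * u = u * a := by
    have : closure ({s, s} : Set G) ≤ centralizer ({u} : Set G) := by
      rw [closure_le]
      rintro a (rfl | rfl) <;> exact mem_centralizer_singleton_iff.mpr hsu
    exact fun a ha => mem_centralizer_singleton_iff.mp (this ha)
  obtain ⟨w, hwX, hww, hwf, hwt, hws, hfY⟩ := fixes_or h.w h.k hT hV hVu hcom hsV hf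
  have hwu : w * u = u * w := pair_comm hu hwX
  have hsw1 : s * w ≠ 1 := by
    intro h1
    apply hsX
    rw [eq_inv_of_mul_eq_one_left h1]
    exact inv_mem hwX
  have hsww : (s * w) * (s * w) = 1 := mul_sq hs.sq hww hws.symm
  have hswu : (s * w) * u = u * (s * w) := comm_mul hsu hwu
  have hswf : Fixes (s * w) X := fixes_mul hf hwf
  have hb : IsBig κ u X (s * w) := isBig_of_fixes h hT hsww hswu (comm_mul hst hwt) hswf hsw1 hfY
  by_cases hw1 : w = 1
  · rwa [hw1, mul_one] at hb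
  exfalso
  obtain ⟨Mw, hMw, huM, hle, hs1, hs2, hfix⟩ := h.w.sett.vess hu hwX hww hw1 hwf
  have h1 : Fixes s Mw := (hfix s hws.symm hf.1).mpr hf
  have h2 : Fixes w S := typeZero_symm' hMw hs hws h1
  have h3 : Fixes (s * w) S := fixes_mul (pair_fixes hs) h2
  have hxs : (s * w) * s = s * (s * w) := by rw [mul_assoc, hws]
  have hwx : w * (s * w) = (s * w) * w := by rw [← mul_assoc, hws]
  have hM := pump_comp hu hsww hswu hswf
  have hM' := pump_comp hs hsww hxs h3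
  have hwM : w ∈ pump (s * w) X := mem_pump_of_mem hu hsww hswu hswf hwX hwx (k := 1)
    (by rw [pow_one, pow_two, hww])
  have hsM' : s ∈ pump (s * w) S := mem_pump hs hsww hxs h3
  have hxM : Fixes (s * w) (pump (s * w) X) := fixes_of_le_cent hM.le
  have heq : pump (s * w) X = pump (s * w) S := by
    by_contra hne
    have h4 : Fixes s (pump (s * w) X) := hM.fixes_of_mem hM' hne hsM'
    exact big_nf h hu hsww hswu hswf hb hwM hww hw1 ((fixes_mul_iff_right h4).mp hxM)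
  rw [← heq] at hsM'
  exact big_nf h hu hsww hswu hswf hb (mul_mem hsM' hwM) hsww hsw1 hxM

/-- the product of `s` and an involution of the vessel is not the involution of a pair -/
theorem prod (h : W5 κ G) (hu : IsPair κ u X) (hs : IsPair κ s S) (hsu : s * u = u * s)
    (hf : Fixes s X) (hsX : s ∉ X) (hw : w ∈ X) (hww : w * w = 1) (hw1 : w ≠ 1)
    (hwf : Fixes w X) (hws : w * s = s * w) : ¬ IsPair κ (s * w) Y := by
  intro hY
  have hwu : w * u = u * w := pair_comm hu hw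
  refine not_both h hu hs.sq hsu hf (isBig_of_pair h hu hs hsu hf hsX) hw hww hw1 hwf hws
    (isBig_of_pair h hu hY (comm_mul hsu hwu) (fixes_mul hf hwf) fun h1 => hsX ?_)
  have := mul_mem h1 (inv_mem hw)
  rwa [mul_inv_cancel_right] at this

/-- **(5.4)**: `D ∩ He` is one class -/
theorem cls (h : W5 κ G) (F : HeTwo κ) (hu : IsPair κ u X) (hxx : x * x = 1) (hx : x * u = u * x)
    (hf : Fixes x X) (hb : IsBig κ u X x) (ht : IsPair κ t Y) (htM : t ∈ pump x X) :
    ∃ g ∈ pump x X, g * u * g⁻¹ = t := by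
  obtain ⟨huM, hTT, hp⟩ := big_pair hu hxx hx hf hb
  have hle := cen_le_pump hu hxx hx hf
  rcases F hTT hp (QuotientGroup.mk ⟨t, htM⟩) (mk_sq_one htM ht.sq) (mk_ne_one' htM ht.sq ht.ne_one)
    with h1 | ⟨gb, hg⟩
  · exact exists_conj_of_mk huM htM hu.sq ht.sq h1
  · exfalso
    obtain ⟨⟨k, hk⟩, rfl⟩ := QuotientGroup.mk_surjective gb
    obtain ⟨hL, hnc, l, hl, hln⟩ := hg
    have hkt : k * t * k⁻¹ ∈ pump x X := conj_mem (le_normalizer hk) htM
    have hL' : (QuotientGroup.mk ⟨k * t * k⁻¹, hkt⟩ : ↥(pump x X) ⧸ oddCore ↥(pump x X)) ∈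
      qs (pump x X) (cen X x) := hL
    obtain ⟨i, ⟨hiJ', -⟩, hic⟩ := (mem_qs hkt).mp hL'
    have hiJ : i ∈ cen X x := hiJ'
    have hcore : core (cen X x) ≤ core (pump x X) := HeP.big_core_le h.w.sett.he hle hTT hp
    -- an involution of `J` over `k t k⁻¹`
    have hiM := hle hiJ
    have hmki : (QuotientGroup.mk ⟨i, hiM⟩ : ↥(pump x X) ⧸ oddCore ↥(pump x X)) =
        QuotientGroup.mk ⟨k * t * k⁻¹, hkt⟩ := (mk_eq_iff hiM hkt).mpr hic
    have hktt : (k * t * k⁻¹) * (k * t * k⁻¹) = 1 := by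
      calc k * t * k⁻¹ * (k * t * k⁻¹) = k * (t * t) * k⁻¹ := by group
        _ = 1 := by rw [ht.sq]; group
    have hii : i ^ 2 ^ 1 ∈ core (cen X x) := by
      refine inf_core_le (M := pump x X) (hle.trans le_normalizer) ⟨pow_mem hiJ _, ?_⟩
      change i ^ 2 ^ 1 ∈ core (pump x X)
      rw [← mk_eq_one_iff (pow_mem hiM _)]
      have e1 : (QuotientGroup.mk ⟨i ^ 2 ^ 1, pow_mem hiM _⟩ : ↥(pump x X) ⧸ oddCore ↥(pump x X)) =
          QuotientGroup.mk ⟨i, hiM⟩ * QuotientGroup.mk ⟨i, hiM⟩ := by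
        rw [← QuotientGroup.mk_mul]
        congr 1
        exact Subtype.ext (by
          change i ^ 2 ^ 1 = i * i
          rw [pow_one, pow_two])
      rw [e1, hmki]
      exact mk_sq_one hkt hktt
    obtain ⟨n, hn1, hn2⟩ := Lifting.exists_two_part (odd_card_core (cen X x)) hii
    obtain ⟨c, hc⟩ : ∃ c, c = i ^ n := ⟨_, rfl⟩
    rw [← hc] at hn1 hn2
    have hcJ : c ∈ cen X x := hc ▸ pow_mem hiJ n
    have hcM := hle hcJ
    have hcX := cen_le X x hcJ
    have hcc : c * c = 1 := by rw [← pow_two, ← hn1, pow_one]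
    have hmkc : (QuotientGroup.mk ⟨c, hcM⟩ : ↥(pump x X) ⧸ oddCore ↥(pump x X)) =
        QuotientGroup.mk ⟨k * t * k⁻¹, hkt⟩ := by
      rw [← hmki, eq_comm, mk_eq_iff]
      exact hcore hn2
    -- `c` is the involution of a pair
    obtain ⟨g, hgM, hg⟩ := exists_conj_of_mk htM hcM ht.sq hcc ⟨QuotientGroup.mk ⟨k, hk⟩, by
      rw [hmkc]; rfl⟩
    have hcP := pair_conj ht hg
    -- `c` is not canonical
    have hnc' : ¬ Can (QuotientGroup.mk ⟨c, hcX⟩ : ↥X ⧸ oddCore ↥X) := by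
      intro hcan
      obtain ⟨hm, hcan'⟩ := can_qs hu hxx hx hf hcX hcJ hcan
      apply hnc
      have e2 : (⟨_, hm⟩ : ↥(qs (pump x X) (cen X x))) = ⟨_, hL⟩ := Subtype.ext hmkc
      rw [e2] at hcan'
      exact hcan'
    have hcf : ¬ Fixes c X := by
      intro hcf
      apply hln
      obtain ⟨⟨l, hlM⟩, rfl⟩ := QuotientGroup.mk_surjective l
      obtain ⟨m, ⟨hmJ', -⟩, hml⟩ := (mem_qs hlM).mp hl
      have hmJ : m ∈ cen X x := hmJ'
      have e3 : (QuotientGroup.mk ⟨l, hlM⟩ : ↥(pump x X) ⧸ oddCore ↥(pump x X)) =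
          QuotientGroup.mk ⟨m, hle hmJ⟩ := ((mk_eq_iff (hle hmJ) hlM).mpr hml).symm
      have e4 : (QuotientGroup.mk ⟨k, hk⟩ : ↥(pump x X) ⧸ oddCore ↥(pump x X)) *
          QuotientGroup.mk ⟨t, htM⟩ * (QuotientGroup.mk ⟨k, hk⟩)⁻¹ = QuotientGroup.mk ⟨c, hcM⟩ :=
        hmkc.symm
      rw [e3, e4, mk_comm_iff]
      have hsup := (isComp_cen hu.comp (mem_centralizer_singleton_iff.mpr hx) hxx hf).2
      have hcJn : c ∈ normalizer (cen X x : Set G) := le_normalizer hcJ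
      have h5 : Fixes c (cen X x) := (fixes_iff_of_sup hsup hcJn hcf.1).mpr hcf
      exact hcore ((fixes_iff_conj.mp h5).2 m hmJ)
    exact h.w.not_D hu hcX hnc' hcf hcP

end Cfsg.Agent.UGT.I34.FiveC
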