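import Cfsg.Agent.UGT.I34.FiveC.Big

/-!
# THEOREM I34, part [C] (`Z = 2²`), (C5)

* `cen5`: commuting type (0) partners `s, j ∉ X` of `u`: `j` fixes the pump-up at `s`.
-/

set_option autoImplicit false

open Cfsg Subgroup
open Cfsg.Agent.SignalizersComponents Cfsg.Agent.Lib
open Cfsg.Agent.SignalizersComponents.IntrinsicBasic
open Cfsg.Agent.SignalizersComponents.PLayerAut
open Cfsg.Agent.Intrinsic
open Cfsg.Agent.Intrinsic.Basic hiding IsPair PQS Target IsPair.sq IsPair.ne_one IsPair.cj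
open Cfsg.Agent.Intrinsic.Cen hiding pair_comm pair_mem_cen exists_pump pump_unique
open Cfsg.Agent.Intrinsic.Quot hiding Big isPair_quot small_or_big
open Cfsg.Agent.McLLyComp.Act hiding mk_eq_one_iff
open Cfsg.Agent.UGT.I34.Pair Cfsg.Agent.UGT.I34.KAut Cfsg.Agent.UGT.I34.WOne
open Cfsg.Agent.UGT.I34.KF (NInv)
open Cfsg.Agent.UGT.I34.Four
open Cfsg.Agent.UGT.I34.HeP.Bal (AutL)
open scoped commutatorElement

namespace Cfsg.Agent.UGT.I34.FiveC

universe v

variable {G : Type v} [Group G] [Finite G] {κ : Kind.{v}} {u t x w s y j : G} {X Y S M V E : Subgroup G}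

/-- `a` fixes `X` and commutes with `x`: `a` acts on `M / O(M)` as a central element of `qs M J`; the latter is lifted
to an involution (or `1`) of `X` commuting with a given 2-group -/
theorem exists_vess (h : W5 κ G) (A : AutL κ) (hu : IsPair κ u X) (hxx : x * x = 1)
    (hx : x * u = u * x) (hf : Fixes x X) (hb : IsBig κ u X x) {P : Subgroup G} (hP : IsPGroup 2 P)
    (hPf : ∀ p ∈ P, Fixes p X) (hPx : ∀ p ∈ P, p * x = x * p) {a : G} (ha : a ∈ P) :
    ∃ c ∈ X, c * c = 1 ∧ Fixes c X ∧ (∀ p ∈ P, p * c = c * p) ∧ c * x = x * c ∧ c ∈ pump x X ∧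
      Fixes (a * c) (pump x X) := by
  obtain ⟨huM, hTT, hp⟩ := big_pair hu hxx hx hf hb
  have hle := cen_le_pump hu hxx hx hf
  have hcore : core (cen X x) ≤ core (pump x X) := HeP.big_core_le h.w.sett.he hle hTT hp
  have hsup := (isComp_cen hu.comp (mem_centralizer_singleton_iff.mpr hx) hxx hf).2
  have haf := hPf a ha
  have hax := hPx a ha
  have haM : a ∈ normalizer (pump x X : Set G) := mem_normalizer_pump hu hxx hx hf haf.1 hax
  have hPJ : ∀ p ∈ P, Fixes p (cen X x) := fun p hp =>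
    (fixes_iff_of_sup hsup (mem_normalizer_cen (hPf p hp).1 (hPx p hp)) (hPf p hp).1).mpr (hPf p hp)
  obtain ⟨c', hc', hcc', hφ⟩ := A hTT hp (act (pump x X) ⟨a, haM⟩) (by
    intro l hl
    obtain ⟨⟨l, hlM⟩, rfl⟩ := QuotientGroup.mk_surjective l
    obtain ⟨i, hi, hil⟩ := (mem_qs hlM).mp hl
    have hiJ : i ∈ cen X x := hi.1
    have e1 : (QuotientGroup.mk ⟨l, hlM⟩ : ↥(pump x X) ⧸ oddCore ↥(pump x X)) =
        QuotientGroup.mk ⟨i, hi.2⟩ := ((mk_eq_iff hi.2 hlM).mpr hil).symm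
    rw [e1, act_mk haM hi.2, eq_comm, mk_eq_iff hi.2 (conj_mem haM hi.2)]
    exact hcore ((fixes_iff_conj.mp (hPJ a ha)).2 i hiJ))
  obtain ⟨⟨c₁, hc₁M⟩, rfl⟩ := QuotientGroup.mk_surjective c'
  obtain ⟨c₀, hc₀, hc₀'⟩ := (mem_qs hc₁M).mp hc'
  have hc₀J : c₀ ∈ cen X x := hc₀.1
  have hc₀M := hle hc₀J
  have e2 : (QuotientGroup.mk ⟨c₁, hc₁M⟩ : ↥(pump x X) ⧸ oddCore ↥(pump x X)) =
      QuotientGroup.mk ⟨c₀, hc₀M⟩ := ((mk_eq_iff hc₀M hc₁M).mpr hc₀').symm
  rw [e2] at hcc' hφ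
  -- `c₀` is central in `J / O(J)`
  have hc₀f : Fixes c₀ (cen X x) := by
    rw [fixes_iff_conj]
    refine ⟨le_normalizer hc₀J, fun m hm => ?_⟩
    refine inf_core_le (M := pump x X) (hle.trans le_normalizer) ⟨(cen X x).mul_mem
      ((cen X x).inv_mem hm) (conj_mem (le_normalizer hc₀J) hm), ?_⟩
    have hmL : (QuotientGroup.mk ⟨m, hle hm⟩ : ↥(pump x X) ⧸ oddCore ↥(pump x X)) ∈
        qs (pump x X) (cen X x) := (mem_qs (hle hm)).mpr ⟨m, ⟨hm, hle hm⟩, by
          rw [inv_mul_cancel]; exact one_mem _⟩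
    have h5 := hcc' _ hmL
    have h6 := (mk_comm_iff (hle hm) hc₀M).mp h5.symm
    exact h6
  have hx₀ : (QuotientGroup.mk ⟨c₀, hc₀J⟩ : ↥(cen X x) ⧸ oddCore ↥(cen X x)) ∈ center _ :=
    (mk_mem_center_iff hc₀J).mpr hc₀f
  have hkJ := (kind_cen (κ := κ) hu.comp (mem_centralizer_singleton_iff.mpr hx) hxx hf).mpr hu.kind
  obtain ⟨c, hcJ, hcc, hcP, hmk⟩ := exists_lift_group hP (fun p hp => (hPJ p hp).1)
    (x := QuotientGroup.mk ⟨c₀, hc₀J⟩) (by
      intro p hp
      rw [(act_eq_one_iff (hPJ p hp).1).mpr (hPJ p hp)]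
      rfl) (h.w.sett.kl.sq hkJ _ hx₀)
  have hcX := cen_le X x hcJ
  have hcM := hle hcJ
  have hcf : Fixes c (cen X x) := (mk_mem_center_iff hcJ).mp (hmk ▸ hx₀)
  have hcx : c * x = x * c := by
    have hM := pump_comp hu hxx hx hf
    exact mem_centralizer_singleton_iff.mp (hM.le hcM)
  have e3 : (QuotientGroup.mk ⟨c, hcM⟩ : ↥(pump x X) ⧸ oddCore ↥(pump x X)) =
      QuotientGroup.mk ⟨c₀, hc₀M⟩ := by
    rw [mk_eq_iff]
    exact hcore ((mk_eq_iff hcJ hc₀J).mp hmk)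
  refine ⟨c, hcX, hcc, ?_, hcP, hcx, hcM, ?_⟩
  · exact (fixes_iff_of_sup hsup hcf.1 (le_normalizer hcX)).mp hcf
  · have hacM : a * c ∈ normalizer (pump x X : Set G) := mul_mem haM (le_normalizer hcM)
    rw [← act_eq_one_iff hacM]
    apply MulEquiv.ext
    intro y
    have e4 : act (pump x X) ⟨a * c, hacM⟩ =
        act (pump x X) ⟨a, haM⟩ * act (pump x X) ⟨c, le_normalizer hcM⟩ := by
      rw [← map_mul]
      rfl
    obtain ⟨⟨y, hy⟩, rfl⟩ := QuotientGroup.mk_surjective y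
    have e5 : act (pump x X) ⟨c, le_normalizer hcM⟩ (QuotientGroup.mk ⟨y, hy⟩) =
        QuotientGroup.mk ⟨c, hcM⟩ * QuotientGroup.mk ⟨y, hy⟩ * (QuotientGroup.mk ⟨c, hcM⟩)⁻¹ := rfl
    have e6 : (QuotientGroup.mk ⟨c, hcM⟩ : ↥(pump x X) ⧸ oddCore ↥(pump x X)) *
        QuotientGroup.mk ⟨c, hcM⟩ = 1 := mk_sq_one hcM hcc
    have e7 : (QuotientGroup.mk ⟨c, hcM⟩ : ↥(pump x X) ⧸ oddCore ↥(pump x X))⁻¹ =
        QuotientGroup.mk ⟨c, hcM⟩ := inv_eq_of_mul_eq_one_left e6
    rw [e4, MulAut.mul_apply, e5, hφ, ← e3, e7, MulAut.one_apply]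
    generalize (QuotientGroup.mk ⟨c, hcM⟩ : ↥(pump x X) ⧸ oddCore ↥(pump x X)) = q at *
    calc q * (q * QuotientGroup.mk ⟨y, hy⟩ * q) * q = (q * q) * QuotientGroup.mk ⟨y, hy⟩ * (q * q) := by
          group
      _ = _ := by rw [e6, one_mul, mul_one]

/-- **(C5)** -/
theorem cen5 (h : W5 κ G) (A : AutL κ) (hu : IsPair κ u X) (hs : IsPair κ s S) (hsu : s * u = u * s)
    (hsf : Fixes s X) (hsX : s ∉ X) (hj : IsPair κ j E) (hju : j * u = u * j) (hjf : Fixes j X)
    (hjX : j ∉ X) (hsj : s * j = j * s) : Fixes j (pump s X) := by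
  have hb := isBig_of_pair h hu hs hsu hsf hsX
  have hP := isPGroup_two hs.sq hj.sq hsj
  have hsP : s ∈ closure ({s, j} : Set G) := subset_closure (Or.inl rfl)
  have hjP : j ∈ closure ({s, j} : Set G) := subset_closure (Or.inr rfl)
  obtain ⟨c, hcX, hcc, hcf, hcP, hcs, hcM, hjc⟩ := exists_vess h A hu hs.sq hsu hsf hb hP
    (fixes_closure (by
      rintro a (rfl | rfl)
      · exact hsf
      · exact hjf))
    (by
      have : closure ({s, j} : Set G) ≤ centralizer ({s} : Set G) := by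
        rw [closure_le]
        rintro a (rfl | rfl)
        · exact mem_centralizer_singleton_iff.mpr rfl
        · exact mem_centralizer_singleton_iff.mpr hsj.symm
      exact fun p hp => mem_centralizer_singleton_iff.mp (this hp)) hjP
  by_cases hc1 : c = 1
  · rwa [hc1, mul_one] at hjc
  exfalso
  have hjcc : j * c = c * j := hcP j hjP
  have hcu : c * u = u * c := pair_comm hu hcX
  -- a type I partner
  have hQ : IsPGroup 2 (closure ({s, j, c} : Set G)) := by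
    refine isPGroup_closure ?_ ?_
    · rintro a (rfl | rfl | rfl)
      · exact hs.sq
      · exact hj.sq
      · exact hcc
    · rintro a (rfl | rfl | rfl) b (rfl | rfl | rfl)
      · rfl
      · exact hsj
      · exact hcs.symm
      · exact hsj.symm
      · rfl
      · exact hjcc
      · exact hcs
      · exact hjcc.symm
      · rfl
  obtain ⟨t, Y, hT, hcom⟩ := h.exists_t hu hQ (fixes_closure (by
    rintro a (rfl | rfl | rfl)
    · exact hsf
    · exact hjf
    · exact hcf))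
  have hst : s * t = t * s := hcom s (subset_closure (Or.inl rfl))
  have hjt : j * t = t * j := hcom j (subset_closure (Or.inr (Or.inl rfl)))
  have hct : c * t = t * c := hcom c (subset_closure (Or.inr (Or.inr rfl)))
  obtain ⟨hsY, hpump⟩ := of_isBig h hT hs.sq hsu hst hsf hb
  have h1 : Fixes (j * c) Y := by
    refine fixes_of_pump hT.pt hs.sq hst hsY (hT.symm.norm (comm_mul hjt hct))
      (comm_mul hsj.symm hcs) ?_
    rw [hpump]
    exact hjc
  have hjc1 : j * c ≠ 1 := by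
    intro h2
    apply hjX
    rw [eq_inv_of_mul_eq_one_left h2]
    exact inv_mem hcX
  have h2 := isBig_of_fixes h hT (mul_sq hj.sq hcc hjcc) (comm_mul hju hcu) (comm_mul hjt hct)
    (fixes_mul hjf hcf) hjc1 h1
  exact not_both h hu hj.sq hju hjf (isBig_of_pair h hu hj hju hjf hjX) hcX hcc hc1 hcf hjcc.symm h2

end Cfsg.Agent.UGT.I34.FiveC
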