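import Cfsg.Agent.UGT.I34.FiveC.Local
import Cfsg.Agent.UGT.I34.FourC

/-!
# THEOREM I34, part [C] (`Z = 2²`), (5.2): type I pairs and the local configuration

* `TI κ u t X Y`: `(u, X)`, `(t, Y)` form a type I pair, with everything that follows from `World.ti`;
* `sideC`: the side `X` of the configuration;
* `fixes_or`: **(5.2)**: `x` a 2-element commuting with `u`, `t` and fixing `X`: `x w` fixes `Y` for some `w` in the
  vessel of `X`.
-/

set_option autoImplicit false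

open Cfsg Subgroup
open Cfsg.Agent.SignalizersComponents Cfsg.Agent.Lib
open Cfsg.Agent.SignalizersComponents.IntrinsicBasic
open Cfsg.Agent.SignalizersComponents.PLayerAut
open Cfsg.Agent.Intrinsic
open Cfsg.Agent.Intrinsic.Basic hiding IsPair PQS Target IsPair.sq IsPair.ne_one IsPair.cj
open Cfsg.Agent.Intrinsic.Cen hiding pair_comm pair_mem_cen exists_pump pump_unique
open Cfsg.Agent.Intrinsic.Quot hiding Big isPair_quot small_or_big
open Cfsg.Agent.McLLyComp.Act hiding mk_eq_one_iff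
open Cfsg.Agent.UGT.I34.Pair Cfsg.Agent.UGT.I34.KAut
open Cfsg.Agent.UGT.I34.KF (NInv) 
open Cfsg.Agent.UGT.I34.Loc (Side Cen)
open Cfsg.Agent.UGT.I34.Four
open scoped commutatorElement

namespace Cfsg.Agent.UGT.I34.FiveC

universe v

section syl

theorem relIndex_dvd {H : Type*} [Group H] [Finite H] (P X : Subgroup H) [X.Normal] :
    P.relIndex X ∣ P.index := by
  have h1 : X.relIndex P * P.index = (X ⊓ P).index := by
    rw [← inf_relIndex_right, relIndex_mul_index inf_le_right]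
  have h2 : P.relIndex X * X.index = (X ⊓ P).index := by
    rw [← inf_relIndex_right, inf_comm, relIndex_mul_index inf_le_left]
  have h3 : X.relIndex P * (P ⊔ X).index = X.index := by
    rw [← relIndex_sup_right P X, relIndex_mul_index le_sup_right]
  have h4 : X.relIndex P ≠ 0 := (FiniteIndex.index_ne_zero : (X.subgroupOf P).index ≠ 0)
  refine ⟨(P ⊔ X).index, Nat.eq_of_mul_eq_mul_left (Nat.pos_of_ne_zero h4) ?_⟩
  rw [h1, ← h2, ← h3]
  ring

/-- a normal section which is a 2-group is covered by a Sylow 2-subgroup -/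
theorem exists_in_sylow {G : Type*} [Group G] [Finite G] {R H X : Subgroup G} (_hRH : R ≤ H)
    (hodd : ¬ 2 ∣ R.relIndex H) (hXH : X ≤ H) (hn : ∀ h ∈ H, ∀ x ∈ X, h * x * h⁻¹ ∈ X)
    {Q : Type*} [Group Q] (f : ↥X →* Q) (hf : Function.Surjective f) (hQ : IsPGroup 2 Q) (q : Q) :
    ∃ (x : G) (hx : x ∈ X), x ∈ R ∧ f ⟨x, hx⟩ = q := by
  have h2 : Fact (Nat.Prime 2) := ⟨Nat.prime_two⟩
  have hnorm : (X.subgroupOf H).Normal := ⟨fun x hx g => hn g g.2 x hx⟩
  have h3 : R.relIndex X ∣ R.relIndex H := by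
    have := relIndex_dvd (R.subgroupOf H) (X.subgroupOf H)
    rwa [relIndex_subgroupOf hXH] at this
  have h4 : ((R.subgroupOf X).map f).index ∣ R.relIndex H :=
    (Subgroup.index_map_dvd _ hf).trans h3
  have hfin : Finite Q := Finite.of_surjective f hf
  obtain ⟨k, hk⟩ := hQ.index ((R.subgroupOf X).map f)
  have h5 : (R.subgroupOf X).map f = ⊤ := by
    rw [← Subgroup.index_eq_one]
    rcases Nat.eq_zero_or_pos k with h6 | h6
    · rw [hk, h6, pow_zero]
    · exact absurd ((dvd_pow_self 2 h6.ne').trans (hk ▸ h4)) hodd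
  have h6 : q ∈ (R.subgroupOf X).map f := by rw [h5]; trivial
  obtain ⟨⟨x, hx⟩, hxR, hxq⟩ := h6
  exact ⟨x, hx, hxR, hxq⟩

end syl

variable {G : Type v} [Group G] {κ : Kind.{v}} {u t x w : G} {X Y : Subgroup G}

/-- a type I pair -/
structure TI (κ : Kind.{v}) (u t : G) (X Y : Subgroup G) : Prop where
  pu : IsPair κ u X
  pt : IsPair κ t Y
  comm : u * t = t * u
  tX : t ∈ X
  uY : u ∈ Y
  ct : Can (QuotientGroup.mk ⟨t, tX⟩ : ↥X ⧸ oddCore ↥X)
  cu : Can (QuotientGroup.mk ⟨u, uY⟩ : ↥Y ⧸ oddCore ↥Y)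
  uX : ∀ X', IsPair κ u X' → X' = X
  tY : ∀ Y', IsPair κ t Y' → Y' = Y

/-- the K-facts used for (5.2)-(5.5) -/
structure KI5 (κ : Kind.{v}) : Prop where
  tf : ∀ {K : Type v} [Group K] [Finite K], κ.P K → TFacts K
  cf : ∀ {K : Type v} [Group K] [Finite K], κ.P K → CanF K

namespace TI

theorem symm (h : TI κ u t X Y) : TI κ t u Y X :=
  ⟨h.pt, h.pu, h.comm.symm, h.uY, h.tX, h.cu, h.ct, h.tY, h.uX⟩

theorem tu (h : TI κ u t X Y) : t ≠ u := by
  rintro rfl
  exact h.ct.1.2 (pair_mk_center h.pu)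

theorem norm (h : TI κ u t X Y) {a : G} (ha : a * u = u * a) : a ∈ normalizer (X : Set G) := by
  rw [mem_normalizer_iff_cj]
  apply h.uX
  have := h.pu.cj a
  rwa [ha, mul_inv_cancel_right] at this

theorem not_fixes (h : TI κ u t X Y) : ¬ Fixes t X := fun hf =>
  h.ct.1.2 ((mk_mem_center_iff h.tX).mpr hf)

end TI

variable [Finite G]

/-- the result on type I pairs -/
theorem ti (W : World κ G) (hu : IsPair κ u X) (ht : IsPair κ t Y) (hc : u * t = t * u)
    (hi : IsInn t X) (hf : ¬ Fixes t X) : TI κ u t X Y := by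
  obtain ⟨⟨h1, h2⟩, h3, h4⟩ := W.ti u t X Y hu ht hc hi hf
  have hf' : ¬ Fixes u Y := fun h => hf (typeZero_symm' ht hu hc.symm h)
  obtain ⟨⟨k1, k2⟩, -, k4⟩ := W.ti t u Y X ht hu hc.symm h3 hf'
  exact ⟨hu, ht, hc, h1, k1, h2, k2, h4, k4⟩

theorem TI.of_mem (W : World κ G) (hu : IsPair κ u X) (ht : IsPair κ t Y) (htX : t ∈ X)
    (hf : ¬ Fixes t X) : TI κ u t X Y :=
  ti W hu ht (pair_comm hu htX).symm (isInn_of_mem htX) hf

/-- the elements of the vessel -/
theorem TI.ves (W : World κ G) (h : TI κ u t X Y) (hw : w ∈ X) (hww : w * w = 1) (hw1 : w ≠ 1)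
    (hf : Fixes w X) (hwt : w * t = t * w) : ∃ M, TI κ w t M Y ∧ u ∈ M ∧ cen X w ≤ M ∧
      cen X w ⊔ core M = M ∧ cen X w ⊔ core X = X ∧
      ∀ a : G, a * w = w * a → a ∈ normalizer (X : Set G) → (Fixes a M ↔ Fixes a X) := by
  obtain ⟨M, h1, h2, h3, h4, h5, h6⟩ := W.sett.vess h.pu hw hww hw1 hf
  have htM : t ∈ M := h3 (mem_cen_of_sq h.tX hwt.symm h.pt.sq)
  have hnf : ¬ Fixes t M := fun hf' => h.not_fixes ((h6 t hwt.symm (le_normalizer h.tX)).mp hf')
  exact ⟨M, ti W h1 h.pt hwt (isInn_of_mem htM) hnf, h2, h3, h4, h5, h6⟩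

theorem cenF (W : World κ G) (hu : IsPair κ u X) : CenF (↥X ⧸ oddCore ↥X) :=
  ⟨W.sett.kl.card hu.kind, W.sett.kl.sq hu.kind⟩

/-! ### the configuration -/

/-- `R` a 2-subgroup of `C(u, t)` of odd index -/
structure CfgC (u t : G) (R : Subgroup G) : Prop where
  two : IsPGroup 2 R
  le : R ≤ centralizer ({u} : Set G) ⊓ centralizer ({t} : Set G)
  odd : ¬ 2 ∣ R.relIndex (centralizer ({u} : Set G) ⊓ centralizer ({t} : Set G))

namespace CfgC

variable {R : Subgroup G}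

omit [Finite G] in
theorem symm (c : CfgC u t R) : CfgC t u R where
  two := c.two
  le := by rw [inf_comm]; exact c.le
  odd := by rw [inf_comm]; exact c.odd

omit [Finite G] in
theorem comm_u (c : CfgC u t R) {r : G} (hr : r ∈ R) : r * u = u * r :=
  mem_centralizer_singleton_iff.mp (c.le hr).1

omit [Finite G] in
theorem comm_t (c : CfgC u t R) {r : G} (hr : r ∈ R) : r * t = t * r :=
  mem_centralizer_singleton_iff.mp (c.le hr).2

/-- central involutions of `C(u, t)` are in `R` -/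
theorem mem_of_central (c : CfgC u t R) {y : G}
    (hy : y ∈ centralizer ({u} : Set G) ⊓ centralizer ({t} : Set G))
    (hc : ∀ g ∈ centralizer ({u} : Set G) ⊓ centralizer ({t} : Set G), g * y = y * g) (hyy : y * y = 1) :
    y ∈ R := by
  have h2 : Fact (Nat.Prime 2) := ⟨Nat.prime_two⟩
  have hp : IsPGroup 2 ↥(zpowers y) := by
    rintro ⟨_, k, rfl⟩
    refine ⟨1, ?_⟩
    apply Subtype.ext
    change (y ^ k) ^ 2 ^ 1 = 1
    rw [pow_one, ← zpow_natCast, ← zpow_mul, mul_comm, zpow_mul, zpow_natCast, pow_two, hyy, one_zpow]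
  obtain ⟨x, hx, hxR, hxy⟩ := FiveC.exists_in_sylow (X := zpowers y) (Q := ↥(zpowers y)) c.le c.odd
    (zpowers_le.mpr hy) (by
      intro g hg x hx
      obtain ⟨k, rfl⟩ := mem_zpowers_iff.mp hx
      have h3 : Commute g y := hc g hg
      rw [(h3.zpow_right k).eq, mul_inv_cancel_right]
      exact hx) (MonoidHom.id _) Function.surjective_id hp ⟨y, mem_zpowers y⟩
  have h3 : x = y := congrArg Subtype.val hxy
  rwa [← h3]

theorem uR (c : CfgC u t R) (h : TI κ u t X Y) : u ∈ R :=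
  c.mem_of_central ⟨mem_centralizer_singleton_iff.mpr rfl, mem_centralizer_singleton_iff.mpr h.comm⟩
    (fun _ hg => mem_centralizer_singleton_iff.mp hg.1) h.pu.sq

theorem tR (c : CfgC u t R) (h : TI κ u t X Y) : t ∈ R := c.symm.uR h.symm

theorem cen (c : CfgC u t R) (h : TI κ u t X Y) : Cen ↥R ⟨u, c.uR h⟩ ⟨t, c.tR h⟩ where
  two := c.two
  cz r := Subtype.ext (c.comm_u r.2)
  ce r := Subtype.ext (c.comm_t r.2)
  zz := Subtype.ext h.pu.sq
  ee := Subtype.ext h.pt.sq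
  z1 := fun h' => h.pu.ne_one (congrArg Subtype.val h')
  e1 := fun h' => h.pt.ne_one (congrArg Subtype.val h')
  ze := fun h' => h.tu.symm (congrArg Subtype.val h')

/-- the side `X` of the configuration -/
noncomputable def side (c : CfgC u t R) (h : TI κ u t X Y) (F : KI5 κ) :
    Side ↥R (↥X ⧸ oddCore ↥X) ⟨u, c.uR h⟩ ⟨t, c.tR h⟩ where
  S := X.subgroupOf R
  normal := ⟨fun s hs r => (mem_normalizer_iff.mp (h.norm (c.comm_u r.2)) s).mp hs⟩
  zS := h.pu.mem
  eS := h.tX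
  j := { toFun := fun s => QuotientGroup.mk ⟨((s : ↥R) : G), s.2⟩
         map_one' := rfl
         map_mul' := fun _ _ => rfl }
  inj := by
    rw [injective_iff_map_eq_one]
    rintro ⟨⟨s, hsR⟩, hs⟩ hs1
    have h1 : s ∈ core X := (mk_eq_one_iff (M := X) (x := s) hs).mp hs1
    obtain ⟨n, hn⟩ := c.two ⟨s, hsR⟩
    have h2 : s = 1 := eq_one_of_mem_core h1 (congrArg Subtype.val hn)
    apply Subtype.ext
    exact Subtype.ext h2
  jz := pair_mk_center h.pu
  je := h.ct.1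
  surj := by
    intro k hk
    have h2 : Fact (Nat.Prime 2) := ⟨Nat.prime_two⟩
    have hk' : k ∈ centralizer ({(QuotientGroup.mk ⟨t, h.tX⟩ : ↥X ⧸ oddCore ↥X)} :
        Set (↥X ⧸ oddCore ↥X)) := mem_centralizer_singleton_iff.mpr hk
    have hQ : IsPGroup 2 ↥(centralizer ({(QuotientGroup.mk ⟨t, h.tX⟩ : ↥X ⧸ oddCore ↥X)} :
        Set (↥X ⧸ oddCore ↥X))) :=
      IsPGroup.of_card (n := 8) (by rw [(F.tf h.pu.kind).card h.ct.1]; norm_num)
    let f : ↥(X ⊓ centralizer ({t} : Set G)) →*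
        ↥(centralizer ({(QuotientGroup.mk ⟨t, h.tX⟩ : ↥X ⧸ oddCore ↥X)} : Set (↥X ⧸ oddCore ↥X))) :=
      { toFun := fun x => ⟨QuotientGroup.mk ⟨x, x.2.1⟩, mem_centralizer_singleton_iff.mpr
          (congrArg QuotientGroup.mk (Subtype.ext (mem_centralizer_singleton_iff.mp x.2.2) :
            (⟨(x : G) * t, X.mul_mem x.2.1 h.tX⟩ : ↥X) = ⟨t * x, X.mul_mem h.tX x.2.1⟩))⟩
        map_one' := rfl
        map_mul' := fun _ _ => rfl }
    have hf : Function.Surjective f := by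
      rintro ⟨y, hy⟩
      obtain ⟨⟨m, hm⟩, rfl⟩ := QuotientGroup.mk_surjective y
      have h3 := (mk_comm_iff hm h.tX).mp (mem_centralizer_singleton_iff.mp hy)
      obtain ⟨o, ho, h4⟩ := Lifting.exists_commute (odd_card_core X) (n := 1)
        (by rw [pow_one, pow_two, h.pt.sq]) (le_normalizer_core _ h.tX) h3
      have hmo : m * o ∈ X := X.mul_mem hm (core_le _ ho)
      refine ⟨⟨m * o, hmo, mem_centralizer_singleton_iff.mpr h4.symm⟩, Subtype.ext ?_⟩
      change (QuotientGroup.mk ⟨m * o, hmo⟩ : ↥X ⧸ oddCore ↥X) = QuotientGroup.mk ⟨m, hm⟩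
      rw [mk_eq_iff]
      have : (m * o)⁻¹ * m = o⁻¹ := by group
      rw [this]
      exact inv_mem ho
    obtain ⟨x, hx, hxR, hxk⟩ := FiveC.exists_in_sylow (X := X ⊓ centralizer ({t} : Set G)) c.le c.odd
      (inf_le_inf_right _ fun x hx => mem_centralizer_singleton_iff.mpr (pair_comm h.pu hx)) (by
        intro g hg x hx
        have h3 := h.norm (mem_centralizer_singleton_iff.mp hg.1)
        exact ⟨(mem_normalizer_iff.mp h3 x).mp hx.1, (centralizer ({t} : Set G)).mul_mem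
          ((centralizer ({t} : Set G)).mul_mem hg.2 hx.2) ((centralizer ({t} : Set G)).inv_mem hg.2)⟩)
      f hf hQ ⟨k, hk'⟩
    exact ⟨⟨⟨x, hxR⟩, hx.1⟩, congrArg Subtype.val hxk⟩
  ρ := (act X).comp (inclusion (fun r hr => h.norm (c.comm_u hr)))
  ρ_j r s := rfl
  ρ_S s := by
    apply MulEquiv.ext
    intro x
    obtain ⟨⟨y, hy⟩, rfl⟩ := QuotientGroup.mk_surjective x
    rfl

theorem side_ρ_eq_one_iff (c : CfgC u t R) (h : TI κ u t X Y) (F : KI5 κ) {r : G} (hr : r ∈ R) :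
    (c.side h F).ρ ⟨r, hr⟩ = 1 ↔ Fixes r X := by
  change act X ⟨r, h.norm (c.comm_u hr)⟩ = 1 ↔ _
  rw [act_eq_one_iff]

/-- the vessel of `u` in `R` -/
theorem mem_Uz (c : CfgC u t R) (h : TI κ u t X Y) (F : KI5 κ) {w : ↥R} :
    w ∈ Uz (c.side h F) ↔ (w : G) ∈ X ∧ Fixes (w : G) X := by
  rw [FiveC.mem_Uz]
  constructor
  · rintro ⟨h1, h2⟩
    have h1' : (w : G) ∈ X := h1
    exact ⟨h1', (mk_mem_center_iff h1').mp h2⟩
  · rintro ⟨h1, h2⟩
    exact ⟨h1, (mk_mem_center_iff h1).mpr h2⟩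

theorem ves (W : World κ G) (c : CfgC u t R) (h : TI κ u t X Y) (F : KI5 κ) :
    Ves (c.side h F) (c.symm.side h.symm F) := by
  rintro ⟨w, hwR⟩ hw
  have hww : w * w = 1 := congrArg Subtype.val (Uz_sq (c.cen h) (cenF W h.pu) hw)
  obtain ⟨hwX, hwf⟩ := (c.mem_Uz h F).mp hw
  by_cases hw1 : w = 1
  · subst hw1
    exact ⟨one_mem Y, fun h' => absurd rfl h'⟩
  · obtain ⟨M, hM, -⟩ := h.ves W hwX hww hw1 hwf (c.comm_t hwR)
    exact ⟨hM.uY, fun _ => hM.cu⟩

/-- existence of `R` containing a given 2-subgroup -/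
theorem exists_cfg (u t : G) {V : Subgroup G} (hV : IsPGroup 2 V)
    (hVle : V ≤ centralizer ({u} : Set G) ⊓ centralizer ({t} : Set G)) : ∃ R, CfgC u t R ∧ V ≤ R := by
  have h2 : Fact (Nat.Prime 2) := ⟨Nat.prime_two⟩
  obtain ⟨H, hH⟩ : ∃ H, H = centralizer ({u} : Set G) ⊓ centralizer ({t} : Set G) := ⟨_, rfl⟩
  have hV' : IsPGroup 2 ↥(V.subgroupOf H) := hV.comap_of_injective H.subtype H.subtype_injective
  obtain ⟨P, hP⟩ := hV'.exists_le_sylow
  refine ⟨(P : Subgroup ↥H).map H.subtype, ⟨P.2.map _, ?_, ?_⟩, ?_⟩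
  · rw [← hH]; exact map_subtype_le _
  · rw [← hH]
    have h3 : ((P : Subgroup ↥H).map H.subtype).relIndex H = (P : Subgroup ↥H).index := by
      rw [relIndex, ← comap_subtype, comap_map_eq_self_of_injective H.subtype_injective]
    rw [h3]
    exact P.not_dvd_index
  · intro x hx
    rw [← hH] at hVle
    exact ⟨⟨x, hVle hx⟩, hP hx, rfl⟩

end CfgC

/-- **(5.2)** for a 2-group `V` -/
theorem fixes_or (W : World κ G) (F : KI5 κ) (h : TI κ u t X Y) {V : Subgroup G} (hV : IsPGroup 2 V)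
    (hVu : ∀ a ∈ V, a * u = u * a) (hVt : ∀ a ∈ V, a * t = t * a) (hx : x ∈ V) (hf : Fixes x X) :
    ∃ w ∈ X, w * w = 1 ∧ Fixes w X ∧ w * t = t * w ∧ w * x = x * w ∧ Fixes (x * w) Y := by
  obtain ⟨R, c, hVR⟩ := CfgC.exists_cfg u t hV fun a ha =>
    ⟨mem_centralizer_singleton_iff.mpr (hVu a ha), mem_centralizer_singleton_iff.mpr (hVt a ha)⟩
  have hxR := hVR hx
  have hA : (c.side h F).ρ ⟨x, hxR⟩ = 1 := (c.side_ρ_eq_one_iff h F hxR).mpr hf
  obtain ⟨⟨w, hwR⟩, hw, h1⟩ := fix_or (c.cen h) (cenF W h.pu) (cenF W h.pt) (F.tf h.pu.kind)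
    (F.tf h.pt.kind) (F.cf h.pu.kind) (c.ves W h F) (c.symm.ves W h.symm F) hA
  have hww : w * w = 1 := congrArg Subtype.val (Uz_sq (c.cen h) (cenF W h.pu) hw)
  obtain ⟨hwX, hwf⟩ := (c.mem_Uz h F).mp hw
  refine ⟨w, hwX, hww, hwf, c.comm_t hwR, ?_, ?_⟩
  · have := comm_of_ρ (c.side h F) hA ((mem_Uz (c.side h F)).mp hw).1
    exact (congrArg Subtype.val this).symm
  · exact (c.symm.side_ρ_eq_one_iff h.symm F (mul_mem hxR hwR)).mp h1

end Cfsg.Agent.UGT.I34.FiveC
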