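import Cfsg.Agent.UGT.I34.FiveC.Cfg
import Cfsg.Agent.UGT.I34.FourTF
import Cfsg.Agent.UGT.I34.HeP.Base

/-!
# THEOREM I34, part [C] (`Z = 2²`), (5.3)-(5.5)

* `W5 κ G`: the world, no pair with partners of type (0) only;
* `isBig_iff`: **(5.3)**;
* `isBig_of_pair`: **(5.5)**: a type (0) partner `s ∉ X` is big;
* `not_both`: at most one of `y w`, `w` in the vessel, is big.
-/

set_option autoImplicit false

open Cfsg Subgroup
open Cfsg.Agent.SignalizersComponents Cfsg.Agent.Lib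
open Cfsg.Agent.SignalizersComponents.IntrinsicBasic
open Cfsg.Agent.SignalizersComponents.PLayerAut
open Cfsg.Agent.Intrinsic
open Cfsg.Agent.Intrinsic.Basic hiding IsPair PQS Target IsPair.sq IsPair.ne_one IsPair.cj
open Cfsg.Agent.Intrinsic.Cen hiding pair_comm pair_mem_cen exists_pump pump_unique
open Cfsg.Agent.Intrinsic.Quot hiding Big isPair_quot small_or_big
open Cfsg.Agent.McLLyComp.Act hiding mk_eq_one_iff
open Cfsg.Agent.UGT.I34.Pair Cfsg.Agent.UGT.I34.KAut Cfsg.Agent.UGT.I34.WOne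
open Cfsg.Agent.UGT.I34.KF (NInv)
open Cfsg.Agent.UGT.I34.Four
open scoped commutatorElement

namespace Cfsg.Agent.UGT.I34.FiveC

universe v

/-- The world of (5.2)-(5.5). -/
structure W5 (κ : Kind.{v}) (G : Type v) [Group G] : Prop where
  w : World κ G
  k : KI5 κ
  conj : ∀ {K : Type v} [Group K] [Finite K], κ.P K → ∀ s t : K, Can s → Can t → ∃ g, g * s * g⁻¹ = t
  /-- no pair has partners of type (0) only -/
  ex : ∀ {u : G} {X : Subgroup G}, IsPair κ u X → ∃ v Y, IsPair κ v Y ∧ u * v = v * u ∧ ¬ Fixes v X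

variable {G : Type v} [Group G] [Finite G] {κ : Kind.{v}} {u t x w s y : G} {X Y S M : Subgroup G}

namespace W5

/-- a type I partner commuting with a 2-group which fixes `X` -/
theorem exists_t (h : W5 κ G) (hu : IsPair κ u X) {P : Subgroup G} (hP : IsPGroup 2 P)
    (hf : ∀ p ∈ P, Fixes p X) : ∃ t Y, TI κ u t X Y ∧ ∀ p ∈ P, p * t = t * p := by
  obtain ⟨t', ht'⟩ := h.w.sett.kl.exCan hu.kind
  obtain ⟨a, ha, haa, hcom, hmk⟩ := exists_lift_group hP (fun p hp => (hf p hp).1) (x := t') (by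
    intro p hp
    rw [(act_eq_one_iff (hf p hp).1).mpr (hf p hp)]
    rfl) ht'.1.1
  have hcan : Can (QuotientGroup.mk ⟨a, ha⟩ : ↥X ⧸ oddCore ↥X) := hmk ▸ ht'
  obtain ⟨v, X', hv, huv, hnf⟩ := h.ex hu
  obtain ⟨Y, hY, -⟩ := h.w.canP hu (h.conj hu.kind) hv huv hnf ha haa hcan
  refine ⟨a, Y, TI.of_mem h.w hu hY ha fun hfa => ?_, hcom⟩
  exact hcan.1.2 ((mk_mem_center_iff ha).mpr hfa)

/-- `|Ω_u| = 1` -/
theorem one (h : W5 κ G) (hu : IsPair κ u X) (hu' : IsPair κ u Y) : Y = X := by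
  obtain ⟨v, X', hv, huv, hnf⟩ := h.ex hu
  exact h.w.one_of hu hv huv hnf Y hu'

theorem norm (h : W5 κ G) (hu : IsPair κ u X) {a : G} (ha : a * u = u * a) :
    a ∈ normalizer (X : Set G) := by
  rw [mem_normalizer_iff_cj]
  apply h.one hu
  have := hu.cj a
  rwa [ha, mul_inv_cancel_right] at this

theorem small_or_big (h : W5 κ G) (hu : IsPair κ u X) (hxx : x * x = 1) (hx1 : x ≠ 1)
    (hx : x * u = u * x) (hf : Fixes x X) : IsSmall X x ∨ IsBig κ u X x :=
  isSmall_or_isBig h.w.sett.ih h.w.sett.cent hu hxx hx1 hx hf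

end W5

section five

variable (h : W5 κ G) (hT : TI κ u t X Y) (hxx : x * x = 1) (hxu : x * u = u * x)
  (hxt : x * t = t * x) (hf : Fixes x X)

include hT hxx hxu hxt hf

omit [Finite G] in
theorem t_pow : t ^ 2 ^ 1 = 1 := by
  rw [pow_one, pow_two, hT.pt.sq]

theorem not_fixes_pump : ¬ Fixes t (pump x X) := fun hft =>
  hT.not_fixes (fixes_of_pump hT.pu hxx hxu hf (le_normalizer hT.tX) hxt.symm hft)

theorem t_mem_pump : t ∈ pump x X :=
  mem_pump_of_mem hT.pu hxx hxu hf hT.tX hxt.symm (k := 1) (by rw [pow_one, pow_two, hT.pt.sq])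

/-- **(5.3), first half** -/
theorem pump_eq_pump (hfY : Fixes x Y) : pump x X = pump x Y := by
  by_contra hne
  have h1 := pump_comp hT.pu hxx hxu hf
  have h2 := pump_comp hT.pt hxx hxt hfY
  exact not_fixes_pump hT hxx hxu hxt hf
    (h1.fixes_of_mem h2 hne (mem_pump hT.pt hxx hxt hfY))

include h in
theorem isBig_of_fixes (hx1 : x ≠ 1) (hfY : Fixes x Y) : IsBig κ u X x := by
  refine (h.small_or_big hT.pu hxx hx1 hxu hf).resolve_left fun hs => ?_
  have h1 := hs.fixes hT.pu hxu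
  rw [pump_eq_pump hT hxx hxu hxt hf hfY] at h1
  exact not_fixes_pump hT.symm hxx hxt hxu hfY h1

end five

/-- a big pump-up as a pair of `M / O(M)` -/
theorem big_pair (hu : IsPair κ u X) (hxx : x * x = 1) (hx : x * u = u * x) (hf : Fixes x X)
    (hb : IsBig κ u X x) : ∃ huM : u ∈ pump x X,
      κ.T (↥(pump x X) ⧸ oddCore ↥(pump x X)) (QuotientGroup.mk ⟨u, huM⟩)
        (qs (pump x X) (cen X x)) ∧
      IsPair κ (QuotientGroup.mk ⟨u, huM⟩ : ↥(pump x X) ⧸ oddCore ↥(pump x X))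
        (qs (pump x X) (cen X x)) := by
  obtain ⟨huM, hT⟩ := hb
  exact ⟨huM, hT, isPair_quot hu.sq hu.ne_one (pair_mem_cen hu hx) huM
    (isComp_cen_inf hu hxx hx hf)
    ((kind_cen hu.comp (mem_centralizer_singleton_iff.mpr hx) hxx hf).mpr hu.kind)⟩

/-- involutions conjugate modulo the core are conjugate -/
theorem exists_conj_of_mk {M : Subgroup G} {a b : G} (ha : a ∈ M) (hb : b ∈ M) (haa : a * a = 1)
    (hbb : b * b = 1) (hc : ∃ g, g * (QuotientGroup.mk ⟨a, ha⟩ : ↥M ⧸ oddCore ↥M) * g⁻¹ =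
      QuotientGroup.mk ⟨b, hb⟩) : ∃ g ∈ M, g * a * g⁻¹ = b := by
  obtain ⟨g, hg⟩ := hc
  obtain ⟨⟨k, hk⟩, rfl⟩ := QuotientGroup.mk_surjective g
  have h1 : (k * a * k⁻¹)⁻¹ * b ∈ core M :=
    (mk_eq_iff (conj_mem (le_normalizer hk) ha) hb).mp hg
  obtain ⟨o, ho1, ho2⟩ := Lifting.exists_conj_eq (odd_card_core M) (n := 1) (m := 1)
    (by
      rw [pow_one, pow_two]
      calc k * a * k⁻¹ * (k * a * k⁻¹) = k * (a * a) * k⁻¹ := by group
        _ = 1 := by rw [haa]; group)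
    (by rw [pow_one, pow_two, hbb])
    (normalizer_le_normalizer_core M (mul_mem (mul_mem (le_normalizer hk) (le_normalizer ha))
      (inv_mem (le_normalizer hk)))) h1
  refine ⟨o * k, mul_mem (core_le M ho1) hk, ?_⟩
  rw [← ho2]; group

/-- elements of `J` canonical in `X` are canonical in `qs M J` -/
theorem can_qs (hu : IsPair κ u X) (hxx : x * x = 1) (hx : x * u = u * x) (hf : Fixes x X)
    (ht : t ∈ X) (htJ : t ∈ cen X x) (hc : Can (QuotientGroup.mk ⟨t, ht⟩ : ↥X ⧸ oddCore ↥X)) :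
    ∃ h : (QuotientGroup.mk ⟨t, cen_le_pump hu hxx hx hf htJ⟩ :
        ↥(pump x X) ⧸ oddCore ↥(pump x X)) ∈ qs (pump x X) (cen X x),
      Can (QuotientGroup.mk ⟨_, h⟩ : ↥(qs (pump x X) (cen X x)) ⧸ oddCore ↥(qs (pump x X) (cen X x))) := by
  have hsup := (isComp_cen hu.comp (mem_centralizer_singleton_iff.mpr hx) hxx hf).2
  have hle := cen_le_pump hu hxx hx hf
  obtain ⟨e1, he1⟩ := exists_quotEquiv hsup
  obtain ⟨e2, he2⟩ := exists_qs_equiv hle
  have hc1 : Can (QuotientGroup.mk ⟨t, htJ⟩ : ↥(cen X x) ⧸ oddCore ↥(cen X x)) := by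
    rw [← Can.map_iff e1, he1 t htJ ht]
    exact hc
  have hc2 := hc1.map e2
  rw [he2 t htJ] at hc2
  exact ⟨_, hc2⟩

section six

variable (h : W5 κ G) (hT : TI κ u t X Y) (hxx : x * x = 1) (hxu : x * u = u * x)
  (hxt : x * t = t * x) (hf : Fixes x X)

include h hT hxx hxu hxt hf

/-- **(5.3), second half** -/
theorem of_isBig (hb : IsBig κ u X x) : Fixes x Y ∧ pump x Y = pump x X := by
  obtain ⟨huM, hTT, hp⟩ := big_pair hT.pu hxx hxu hf hb
  have htJ : t ∈ cen X x := mem_cen_of_sq hT.tX hxt.symm hT.pt.sq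
  obtain ⟨hm, hc⟩ := can_qs hT.pu hxx hxu hf hT.tX htJ hT.ct
  obtain ⟨gb, hg, -⟩ := h.w.sett.he.can hTT hp _ hm hc
  obtain ⟨g, hgM, hgt⟩ := exists_conj_of_mk huM (cen_le_pump hT.pu hxx hxu hf htJ) hT.pu.sq hT.pt.sq
    ⟨gb, hg⟩
  have hM := pump_comp hT.pu hxx hxu hf
  have hgx : g * x = x * g := mem_centralizer_singleton_iff.mp (hM.le hgM)
  have hxg : g * x * g⁻¹ = x := by rw [hgx, mul_inv_cancel_right]
  have hY : cj g X = Y := hT.tY _ (hgt ▸ hT.pu.cj g)
  have h1 : Fixes x Y := by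
    have := hf.cj g
    rwa [hY, hxg] at this
  refine ⟨h1, ?_⟩
  have h2 := cj_pump hT.pu hxx hxu hf g
  rw [hxg, hY, cj_eq_self_of_mem hgM] at h2
  exact h2

/-- **(5.3)** -/
theorem isBig_iff (hx1 : x ≠ 1) : IsBig κ u X x ↔ Fixes x Y :=
  ⟨fun hb => (of_isBig h hT hxx hxu hxt hf hb).1, isBig_of_fixes h hT hxx hxu hxt hf hx1⟩

end six

/-- commuting involutions fixing `X` -/
theorem isPGroup_two {a b : G} (ha : a * a = 1) (hb : b * b = 1) (hab : a * b = b * a) :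
    IsPGroup 2 (closure ({a, b} : Set G)) := by
  refine isPGroup_closure ?_ ?_
  · rintro x (rfl | rfl)
    · exact ha
    · exact hb
  · rintro x (rfl | rfl) y (rfl | rfl)
    · rfl
    · exact hab
    · exact hab.symm
    · rfl

theorem fixes_closure {A : Set G} (hA : ∀ a ∈ A, Fixes a X) : ∀ a ∈ closure A, Fixes a X := by
  intro a ha
  refine closure_induction (p := fun a _ => Fixes a X) hA (fixes_one X)
    (fun _ _ _ _ h1 h2 => fixes_mul h1 h2) (fun a _ h1 => ?_) ha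
  exact fixes_inv h1

/-- **at most one** of `y`, `y w` is big -/
theorem not_both (h : W5 κ G) (hu : IsPair κ u X) (hyy : y * y = 1) (hyu : y * u = u * y)
    (hf : Fixes y X) (hb : IsBig κ u X y) (hw : w ∈ X) (hww : w * w = 1) (hw1 : w ≠ 1)
    (hwf : Fixes w X) (hwy : w * y = y * w) : ¬ IsBig κ u X (y * w) := by
  intro hb'
  obtain ⟨t, Y, hT, hcom⟩ := h.exists_t hu (isPGroup_two hyy hww hwy.symm)
    (fixes_closure (by
      rintro a (rfl | rfl)
      · exact hf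
      · exact hwf))
  have hyt : y * t = t * y := hcom y (subset_closure (Or.inl rfl))
  have hwt : w * t = t * w := hcom w (subset_closure (Or.inr rfl))
  have hwu : w * u = u * w := pair_comm hu hw
  have h1 := (of_isBig h hT hyy hyu hyt hf hb).1
  have h2 := (of_isBig h hT (mul_sq hyy hww hwy.symm) (comm_mul hyu hwu) (comm_mul hyt hwt)
    (fixes_mul hf hwf) hb').1
  have h3 : Fixes w Y := (fixes_mul_iff_right h1).mp h2
  obtain ⟨M, hM, -⟩ := hT.ves h.w hw hww hw1 hwf hwt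
  exact hM.symm.not_fixes h3

end Cfsg.Agent.UGT.I34.FiveC
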