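import Cfsg.Agent.UGT.I34.FiveC.MemC
import Cfsg.Agent.UGT.I34.KJOf
import Cfsg.Agent.UGT.I34.KIOf

/-!
# THEOREM I34, part [C]: the K-facts `CanF`, `KFu` for `2².L₃(4)`
-/

set_option autoImplicit false

namespace Cfsg.Agent.UGT.I34.FiveC

open Cfsg Subgroup
open scoped commutatorElement
open Cfsg.Agent.Lib
open Cfsg.Agent.UGT.I34.Pair Cfsg.Agent.UGT.I34.KAut
open Cfsg.Agent.UGT.I34.Four (Can TypeF TypeG DZ)
open Cfsg.Agent.UGT.ThEL34 (fx mem_fx)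
open Cfsg.Agent.LThreeFour (Ty datPSL ty1 bitsHom bz)
open Cfsg.Agent.SporadicA.FieldFour
open Cfsg.Agent.UGT.Cov.Klein hiding Can NInv
open Cfsg.Agent.UGT.Cov.Klein.Dat
open Cfsg.Agent.UGT.Cov (gp)

universe u

variable {K : Type*} [Group K]

/-- elements of `D0` which are trivial or canonical -/
theorem eq_zero_of_can (B : Dat K) {c s : F4} (h : B.el ⟨0, 0, c, s⟩ ≠ 1 → Can (B.el ⟨0, 0, c, s⟩)) :
    s = 0 := by
  by_cases h1 : B.el ⟨0, 0, c, s⟩ = 1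
  · rw [← B.el_one] at h1
    exact congrArg Code.s (B.inj h1)
  · have h2 := h h1
    have hz : ¬ zk ⟨0, 0, c, s⟩ := fun hz => h2.1.2 (B.el_mem_center.2 hz)
    have h3 := (B.can_el (Or.inl rfl) hz).1 h2
    simpa [Dat.cls] using h3

theorem canF (A : Dat K) : CanF K where
  class2 {t} ht a ha b hb := by
    obtain ⟨B, r, -, h1, h2⟩ := KIOf.adapt A ht
    rw [h1] at ha hb
    rw [h2]
    obtain ⟨p, rfl⟩ := B.mem_T.1 ha
    obtain ⟨q, rfl⟩ := B.mem_T.1 hb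
    rw [B.el_cc, cc_eq]
    exact B.mem_D0.2 ⟨rfl, rfl⟩
  line {t} ht Y hY htY h4 hcan x hx hxY := by
    obtain ⟨B, r, -, h1, h2⟩ := KIOf.adapt A ht.1
    rw [h1] at hx hxY
    rw [h2] at hY ⊢
    have key : ∀ c s : F4, B.el ⟨0, 0, c, s⟩ ∈ Y → s = 0 := fun c s h =>
      eq_zero_of_can B fun h' => hcan _ h h'
    obtain ⟨p, rfl⟩ := B.mem_T.1 hx
    have h3 : ∀ q : Code, p.a * (q.b * q.b) + q.a * (p.b * p.b) = 0 := by
      intro q
      have h5 := hxY _ (B.el_mem q)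
      rw [B.el_cc, cc_eq] at h5
      exact key _ _ h5
    have h5 := h3 ⟨0, 1, 0, 0⟩
    have h6 := h3 ⟨1, 0, 0, 0⟩
    simp only [mul_one, zero_mul, add_zero] at h5
    simp only [mul_zero, one_mul, zero_add] at h6
    have h7 : p.b = 0 := by
      rcases mul_eq_zero4 _ _ h6 with h | h <;> exact h
    exact B.mem_D0.2 ⟨h5, h7⟩

/-- coordinates adapted to an automorphism of type `f` -/
theorem exists_tau_f [Finite K] (A : Dat K) {φ : MulAut K} {J : Subgroup K} (h : TypeF φ J) :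
    ∃ B : Dat K, B.IsTau (true, false, 0) φ := by
  obtain ⟨B, e, f, hef, ht⟩ := A.exists_pure h.sq (fun k hk => h.out ⟨k, hk.symm⟩)
  have hJ1 : J ≠ ⊥ := by
    obtain ⟨w, hw, -, hw1, -⟩ := h.inv
    rintro rfl
    exact hw1 (mem_bot.mp hw)
  cases e <;> cases f
  · exact absurd rfl hef
  · exfalso
    obtain ⟨R, hmap, -⟩ := res_tau (Or.inr ⟨rfl, rfl⟩) ht
    have h1 := KJOf.comp_eq R h.le h.comp hJ1
    obtain ⟨w, hw, hww, hw1, -⟩ := h.inv
    have h2 := (h.noncan w hw hww hw1).2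
    rw [h1] at hw
    have h3 := inv_J (Or.inr ⟨rfl, rfl⟩) ht hw hww hw1
    rw [if_neg (by decide)] at h3
    exact h2 (B.can_iff.mpr h3)
  · exact ⟨B, ht⟩
  · exfalso
    obtain ⟨z, hz, hz2⟩ := h.center
    obtain ⟨s, rfl⟩ := B.mem_center.1 hz
    apply hz2
    have e1 : ∀ s, fq true s * fq true s = s := by decide
    rw [ht.g, if_pos rfl, e1]

theorem bits_ty' : ∀ τ : Cfsg.Agent.LThreeFour.TyG, bitsHom τ = (bz true, bz false) →
    τ.ty.1 = true ∧ τ.ty.2.1 = false := by decide +kernel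

theorem bits_ty'' : ∀ τ τ' : Ty, τ.1 = true ∧ τ.2.1 = false → τ'.1 = true ∧ τ'.2.1 = false →
    ∀ s : F4, s ≠ 0 ∧ gp τ s = s ∧ gp τ' s = s → τ = τ' := by decide +kernel

theorem bits_ty (τ τ' : Ty) (h : bitsHom ⟨τ⟩ = (bz true, bz false))
    (h' : bitsHom ⟨τ'⟩ = (bz true, bz false)) (s : F4) (hs : s ≠ 0) (h1 : gp τ s = s)
    (h2 : gp τ' s = s) : τ = τ' :=
  bits_ty'' τ τ' (bits_ty' _ h) (bits_ty' _ h') s ⟨hs, h1, h2⟩

theorem g_inj (A : Dat K) {r s : F4} (h : A.g r = A.g s) : r = s := by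
  rw [← A.el_g, ← A.el_g] at h
  exact congrArg Code.s (A.inj h)

/-- the type of an automorphism of type `f` fixing `g(s)` -/
theorem exists_ty [Finite K] (A : Dat K) {φ : MulAut K} {J : Subgroup K} (h : TypeF φ J) {s : F4}
    (hφ : φ (A.g s) = A.g s) : ∃ (l : K) (τ : Ty), A.IsTau τ (MulAut.conj l * φ) ∧
      bitsHom ⟨τ⟩ = (bz true, bz false) ∧ gp τ s = s := by
  obtain ⟨B, hB⟩ := exists_tau_f A h
  obtain ⟨l, τ, h1, -, h2⟩ := A.exists_type φ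
  refine ⟨l, τ, h1, ?_, ?_⟩
  · rw [← h2]
    obtain ⟨γ, -, h3⟩ := exists_gamma B A
    rw [h3, map_mul, map_mul, map_mul, map_mul, map_inv, map_inv, mul_comm (bitsHom _), mul_assoc,
      mul_inv_cancel, mul_one, hB.hasTy]
    rfl
  · have h3 := A.act_g h1 s
    rw [MulAut.mul_apply, hφ, MulAut.conj_apply] at h3
    have h4 : l * A.g s * l⁻¹ = A.g s := by rw [← A.g_cen, mul_inv_cancel_right]
    rw [h4] at h3
    exact (g_inj A h3).symm

theorem kfu_of [Finite K] (A : Dat K) {φ ψ : MulAut K} {J J' : Subgroup K} (hφ : TypeF φ J)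
    (hψ : TypeF ψ J') {z : K} (hz : z ∈ Subgroup.center K) (hz1 : z ≠ 1) (hφz : φ z = z)
    (hψz : ψ z = z) : ∃ k : K, ∀ x, ψ x = k * φ x * k⁻¹ := by
  obtain ⟨s, rfl⟩ := A.mem_center.1 hz
  have hs : s ≠ 0 := by
    rintro rfl
    exact hz1 A.g_zero
  obtain ⟨l, τ, h1, h2, h3⟩ := exists_ty A hφ hφz
  obtain ⟨l', τ', h1', h2', h3'⟩ := exists_ty A hψ hψz
  have h4 := bits_ty τ τ' h2 h2' s hs h3 h3'
  subst h4
  have h5 := h1.ext h1'
  refine ⟨l'⁻¹ * l, fun x => ?_⟩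
  have h6 := DFunLike.congr_fun h5 x
  rw [MulAut.mul_apply, MulAut.mul_apply, MulAut.conj_apply, MulAut.conj_apply] at h6
  calc ψ x = l'⁻¹ * (l' * ψ x * l'⁻¹) * l' := by group
    _ = l'⁻¹ * (l * φ x * l⁻¹) * l' := by rw [h6]
    _ = _ := by group

theorem kfu (κ : Kind.{u}) (hκ : ∀ {K : Type u} [Group K] [Finite K], κ.P K → KleinKind K) : KFu κ := by
  intro K _ _ hK φ ψ J J' hφ hψ z hz hz1 hφz hψz
  obtain ⟨A⟩ := (hκ hK).dat
  exact kfu_of A hφ hψ hz hz1 hφz hψz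

theorem ki5 (κ : Kind.{u}) (hκ : ∀ {K : Type u} [Group K] [Finite K], κ.P K → KleinKind K) :
    KI5 κ where
  tf hK := KIOf.ki κ hκ hK
  cf hK := by
    obtain ⟨A⟩ := (hκ hK).dat
    exact canF A

end Cfsg.Agent.UGT.I34.FiveC
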