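import Cfsg.Agent.UGT.I34.Loc
import Cfsg.Agent.UGT.I34.FourKI

/-!
# THEOREM I34, part [C] (`Z = 2²`), (5.2): the local theory

`R` a 2-group, `z`, `e` central involutions; `A : Side R K₁ z e`, `B : Side R K₂ e z` (see `Loc.lean`);
`Uz A` = the elements of `A.S` over `Z(K₁)` (the vessel of `z`).

* `CanF K`: the two facts on canonical involutions used here;
* `fix_or`: if `A.ρ x = 1` then `B.ρ (x w) = 1` for some `w ∈ Uz A`.
-/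

set_option autoImplicit false
set_option linter.unusedSectionVars false

open Cfsg Subgroup
open Cfsg.Agent.UGT.I34.KF Cfsg.Agent.UGT.I34.Loc Cfsg.Agent.UGT.I34.Four
open scoped commutatorElement

namespace Cfsg.Agent.UGT.I34.FiveC

/-- The facts on canonical involutions of `K = 2².L₃(4)`. -/
structure CanF (K : Type*) [Group K] : Prop where
  /-- `C(t)` has class two -/
  class2 : ∀ {t : K}, NInv t → ∀ a ∈ centralizer ({t} : Set K), ∀ b ∈ centralizer ({t} : Set K),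
    ⁅a, b⁆ ∈ DZ t
  /-- `Y` the canonical line of `Z(C(t))` -/
  line : ∀ {t : K}, Can t → ∀ Y : Subgroup K, Y ≤ DZ t → t ∈ Y → Nat.card Y = 4 →
    (∀ y ∈ Y, y ≠ 1 → Can y) → ∀ x ∈ centralizer ({t} : Set K),
    (∀ p ∈ centralizer ({t} : Set K), ⁅x, p⁆ ∈ Y) → x ∈ DZ t

/-- the centre is a four-group -/
structure CenF (K : Type*) [Group K] : Prop where
  card : Nat.card (center K) = 4
  sq : ∀ c ∈ center K, c * c = 1

section DZ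

variable {K : Type*} [Group K] {t : K}

theorem center_le_DZ : center K ≤ DZ t := by
  intro c hc
  refine ⟨mem_centralizer_singleton_iff.mpr (mem_center_iff.mp hc t).symm, ?_⟩
  exact mem_centralizer_iff.mpr fun h _ => mem_center_iff.mp hc h

theorem DZ_comm {d p : K} (hd : d ∈ DZ t) (hp : p ∈ centralizer ({t} : Set K)) : d * p = p * d :=
  (mem_centralizer_iff.mp hd.2 p hp).symm

end DZ

section one

variable {R : Type*} [Group R] {K : Type*} [Group K] [Finite K] {z e : R} (A : Side R K z e)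

/-- the elements of `S` over `Z(K)` -/
def Uz : Subgroup R := ((center K).comap A.j).map A.S.subtype

theorem mem_Uz {w : R} : w ∈ Uz A ↔ ∃ hw : w ∈ A.S, A.j ⟨w, hw⟩ ∈ center K := by
  constructor
  · rintro ⟨s, hs, rfl⟩
    exact ⟨s.2, hs⟩
  · rintro ⟨hw, h⟩
    exact ⟨⟨w, hw⟩, h, rfl⟩

theorem Uz_le : Uz A ≤ A.S := fun _ h => ((mem_Uz A).mp h).1

theorem z_mem_Uz : z ∈ Uz A := (mem_Uz A).mpr ⟨A.zS, A.jz⟩

theorem ρ_Uz {w : R} (hw : w ∈ Uz A) : A.ρ w = 1 := by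
  obtain ⟨h1, h2⟩ := (mem_Uz A).mp hw
  rw [A.ρ_S ⟨w, h1⟩]
  exact conj_eq_one_iff.mpr h2

theorem mem_Uz_of_ρ {w : R} (hw : w ∈ A.S) (h : A.ρ w = 1) : w ∈ Uz A := by
  refine (mem_Uz A).mpr ⟨hw, ?_⟩
  rw [A.ρ_S ⟨w, hw⟩] at h
  exact conj_eq_one_iff.mp h

theorem conj_Uz (r : R) {w : R} (hw : w ∈ Uz A) : r * w * r⁻¹ ∈ Uz A := by
  obtain ⟨h1, h2⟩ := (mem_Uz A).mp hw
  refine (mem_Uz A).mpr ⟨A.normal.conj_mem w h1 r, ?_⟩
  have := A.ρ_j r ⟨w, h1⟩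
  rw [← this]
  exact map_center _ h2

theorem card_Uz : Nat.card (Uz A) = Nat.card (center K) := by
  unfold Uz
  rw [card_map_of_injective A.S.subtype_injective]
  refine Nat.card_congr (Equiv.ofBijective (fun s : ↥((center K).comap A.j) => (⟨A.j s.1, s.2⟩ :
    ↥(center K))) ⟨?_, ?_⟩)
  · intro a b h
    exact Subtype.ext (A.inj (congrArg Subtype.val h))
  · rintro ⟨c, hc⟩
    obtain ⟨s, hs⟩ := A.surj c (mem_center_iff.mp hc _).symm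
    exact ⟨⟨s, by rw [mem_comap, hs]; exact hc⟩, Subtype.ext hs⟩

theorem j_mem_C (C : Cen R z e) (s : ↥A.S) : A.j s ∈ centralizer ({A.t} : Set K) :=
  mem_centralizer_singleton_iff.mpr (A.j_t C s.2)

/-- elements of `S` whose images commute commute -/
theorem comm_of_j {a b : R} (ha : a ∈ A.S) (hb : b ∈ A.S)
    (h : A.j ⟨a, ha⟩ * A.j ⟨b, hb⟩ = A.j ⟨b, hb⟩ * A.j ⟨a, ha⟩) : a * b = b * a := by
  have h1 : A.j (⟨a, ha⟩ * ⟨b, hb⟩) = A.j (⟨b, hb⟩ * ⟨a, ha⟩) := by rw [map_mul, map_mul, h]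
  exact congrArg Subtype.val (A.inj h1)

/-- `A.ρ x = 1`: `x` centralizes `S` -/
theorem comm_of_ρ {x s : R} (hx : A.ρ x = 1) (hs : s ∈ A.S) : x * s = s * x := by
  have h1 := A.ρ_j x ⟨s, hs⟩
  rw [hx] at h1
  have h2 : (⟨s, hs⟩ : ↥A.S) = ⟨x * s * x⁻¹, A.normal.conj_mem s hs x⟩ := A.inj h1
  have h3 : s = x * s * x⁻¹ := congrArg Subtype.val h2
  rw [eq_mul_inv_iff_mul_eq] at h3
  exact h3.symm

/-- `S ≃ C_K(t)` -/
theorem card_S (C : Cen R z e) :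
    Nat.card A.S = Nat.card (centralizer ({A.t} : Set K)) := by
  refine Nat.card_congr (Equiv.ofBijective (fun s : ↥A.S => (⟨A.j s, j_mem_C A C s⟩ :
    ↥(centralizer ({A.t} : Set K)))) ⟨?_, ?_⟩)
  · intro a b h
    exact A.inj (congrArg Subtype.val h)
  · rintro ⟨k, hk⟩
    obtain ⟨s, hs⟩ := A.surj k (mem_centralizer_singleton_iff.mp hk)
    exact ⟨s, Subtype.ext hs⟩

end one

section two

variable {R : Type*} [Group R] {K₁ K₂ : Type*} [Group K₁] [Group K₂] [Finite K₁] [Finite K₂]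
  {z e : R} (A : Side R K₁ z e) (B : Side R K₂ e z)

/-- the vessel of `z` lies in `B.S` and consists of canonical involutions -/
def Ves : Prop := ∀ w ∈ Uz A, ∃ hw : w ∈ B.S, w ≠ 1 → Can (B.j ⟨w, hw⟩)

variable {A B} (C : Cen R z e)

include C

theorem ρ_ne (h : Ves A B) {w : R} (hw : w ∈ Uz A) (hw1 : w ≠ 1) : B.ρ w ≠ 1 := by
  obtain ⟨hwS, hc⟩ := h w hw
  intro h1
  rw [B.ρ_S ⟨w, hwS⟩] at h1
  exact (hc hw1).1.2 (conj_eq_one_iff.mp h1)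

theorem Uz_sq (Z₁ : CenF K₁) {w : R} (hw : w ∈ Uz A) : w * w = 1 := by
  obtain ⟨h1, h2⟩ := (mem_Uz A).mp hw
  have h3 := Z₁.sq _ h2
  rw [← map_mul] at h3
  exact congrArg Subtype.val (A.inj (h3.trans (map_one A.j).symm))

/-- the vessel of `z` is central in `B.S` -/
theorem mem_DZ (Z₁ : CenF K₁) (F₂ : TFacts K₂) (h : Ves A B) {w : R} (hw : w ∈ Uz A)
    (hwB : w ∈ B.S) : B.j ⟨w, hwB⟩ ∈ DZ B.t := by
  obtain ⟨V, hV⟩ : ∃ V : Subgroup (MulAut K₂), V = (Uz A).map B.ρ := ⟨_, rfl⟩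
  have hinj : Set.InjOn B.ρ (Uz A : Set R) := by
    intro a ha b hb hab
    by_contra hne
    refine ρ_ne C h (mul_mem ha (inv_mem hb)) (fun h1 => hne (mul_inv_eq_one.mp h1)) ?_
    rw [map_mul, map_inv, hab, mul_inv_cancel]
  have hcard : Nat.card V = 4 := by
    rw [hV, ← Z₁.card, ← card_Uz A]
    refine (Nat.card_congr (Equiv.ofBijective (fun w : ↥(Uz A) => (⟨B.ρ w, ⟨w, w.2, rfl⟩⟩ :
      ↥((Uz A).map B.ρ))) ⟨?_, ?_⟩)).symm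
    · intro a b hab
      exact Subtype.ext (hinj a.2 b.2 (congrArg Subtype.val hab))
    · rintro ⟨_, w, hw, rfl⟩
      exact ⟨⟨w, hw⟩, rfl⟩
  have key := F₂.four B.je V hcard (by
    rw [hV]
    rintro _ ⟨w, hw, rfl⟩
    rw [← map_mul, Uz_sq C Z₁ hw, map_one]) (by
    rw [hV]
    refine ⟨z, z_mem_Uz A, ?_⟩
    exact B.ρ_S ⟨z, B.eS⟩) (by
    rw [hV]
    rintro x hx _ ⟨w, hw, rfl⟩
    obtain ⟨s, rfl⟩ := B.surj x (mem_centralizer_singleton_iff.mp hx)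
    refine ⟨s * w * (s : R)⁻¹, conj_Uz A s hw, ?_⟩
    rw [map_mul, map_mul, map_inv, B.ρ_S s])
  obtain ⟨d, hd, hd1⟩ := (key (B.ρ w)).mp (by rw [hV]; exact ⟨w, hw, rfl⟩)
  rw [B.ρ_S ⟨w, hwB⟩] at hd1
  obtain ⟨c, hc, hc1⟩ := conj_eq_iff.mp hd1
  rw [hc1]
  exact mul_mem hd (center_le_DZ hc)

/-- `Z(C(t)) = Z(K) × (image of the vessel of z)` -/
theorem exists_of_DZ (Z₁ : CenF K₁) (Z₂ : CenF K₂) (F₂ : TFacts K₂) (h : Ves A B) {d : K₂}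
    (hd : d ∈ DZ B.t) : ∃ w ∈ Uz A, ∃ hw : w ∈ B.S, ∃ c ∈ center K₂, d = B.j ⟨w, hw⟩ * c := by
  classical
  let f : ↥(Uz A) × ↥(center K₂) → ↥(DZ B.t) := fun p =>
    ⟨B.j ⟨p.1, (h p.1 p.1.2).1⟩ * p.2, mul_mem (mem_DZ C Z₁ F₂ h p.1.2 _) (center_le_DZ p.2.2)⟩
  have hf : Function.Injective f := by
    rintro ⟨⟨a, ha⟩, ⟨c, hc⟩⟩ ⟨⟨b, hb⟩, ⟨d, hd⟩⟩ hab
    have h1 : B.j ⟨a, (h a ha).1⟩ * c = B.j ⟨b, (h b hb).1⟩ * d := congrArg Subtype.val hab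
    have h2 : B.j (⟨b, (h b hb).1⟩⁻¹ * ⟨a, (h a ha).1⟩) = d * c⁻¹ := by
      rw [map_mul, map_inv, inv_mul_eq_iff_eq_mul, ← mul_assoc, ← h1, mul_inv_cancel_right]
    have h3 : b⁻¹ * a = 1 := by
      by_contra hne
      refine ρ_ne C h (mul_mem (inv_mem hb) ha) hne ?_
      have h4 := B.ρ_S (⟨b, (h b hb).1⟩⁻¹ * ⟨a, (h a ha).1⟩)
      have h5 : B.ρ (b⁻¹ * a) = MulAut.conj (d * c⁻¹) := by rw [← h2]; exact h4
      rw [h5]
      exact conj_eq_one_iff.mpr (mul_mem hd (inv_mem hc))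
    have h4 : a = b := (inv_mul_eq_one.mp h3).symm
    subst h4
    have h5 : c = d := mul_left_cancel h1
    subst h5
    rfl
  have hcard : Nat.card (↥(Uz A) × ↥(center K₂)) = Nat.card ↥(DZ B.t) := by
    rw [Nat.card_prod, card_Uz A, Z₁.card, Z₂.card, F₂.card_DZ B.ht]
  have hs : Function.Surjective f := by
    have : Finite ↥(Uz A) := Nat.finite_of_card_ne_zero (by rw [card_Uz A, Z₁.card]; norm_num)
    exact ((Nat.bijective_iff_injective_and_card f).mpr ⟨hf, hcard⟩).2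
  obtain ⟨⟨⟨w, hw⟩, ⟨c, hc⟩⟩, hp⟩ := hs ⟨d, hd⟩
  exact ⟨w, hw, (h w hw).1, c, hc, (congrArg Subtype.val hp).symm⟩

/-- `A.S` acts on `K₂` as inner automorphisms by elements of `C(t)` -/
theorem exists_conj (Z₁ : CenF K₁) (Z₂ : CenF K₂) (F₂ : TFacts K₂) (h : Ves A B) {r : R} (hrV : ∀ v ∈ Uz B, r * v = v * r) (hrU : ∀ w ∈ Uz A, r * w = w * r) :
    ∃ s : ↥B.S, B.ρ r = MulAut.conj (B.j s) := by
  have hfix : ∀ (w : R) (hw : w ∈ B.S), r * w = w * r → B.ρ r (B.j ⟨w, hw⟩) = B.j ⟨w, hw⟩ := by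
    intro w hw hrw
    rw [B.ρ_j]
    congr 1
    apply Subtype.ext
    change r * w * r⁻¹ = w
    rw [hrw, mul_inv_cancel_right]
  obtain ⟨n, hn⟩ := C.two r
  obtain ⟨p, hp, hp1⟩ := F₂.inn B.je (B.ρ r) ⟨n, by rw [← map_pow, hn, map_one]⟩ (by
    intro c hc
    obtain ⟨s, rfl⟩ := B.surj c (mem_center_iff.mp hc _).symm
    exact hfix s s.2 (hrV s ((mem_Uz B).mpr ⟨s.2, hc⟩))) (by
    intro d hd
    obtain ⟨w, hw, hwB, c, hc, rfl⟩ := exists_of_DZ C Z₁ Z₂ F₂ h hd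
    obtain ⟨s, rfl⟩ := B.surj c (mem_center_iff.mp hc _).symm
    refine ⟨1, one_mem _, ?_⟩
    rw [mul_one, map_mul, hfix w hwB (hrU w hw), hfix s s.2 (hrV s ((mem_Uz B).mpr ⟨s.2, hc⟩))])
  obtain ⟨s, rfl⟩ := B.surj p (mem_centralizer_singleton_iff.mp hp)
  exact ⟨s, hp1⟩

/-- the vessels are central in `A.S` -/
theorem comm_V (Z₂ : CenF K₂) (F₁ : TFacts K₁) (h' : Ves B A) {s v : R} (hs : s ∈ A.S)
    (hv : v ∈ Uz B) : s * v = v * s := by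
  obtain ⟨hvA, -⟩ := h' v hv
  refine comm_of_j A hs hvA ?_
  exact (DZ_comm (mem_DZ C.symm Z₂ F₁ h' hv hvA) (j_mem_C A C ⟨s, hs⟩)).symm

theorem comm_U {s w : R} (hs : s ∈ A.S) (hw : w ∈ Uz A) : s * w = w * s :=
  (comm_of_ρ A (ρ_Uz A hw) hs).symm

/-- an element of `A.S` over `Z(C(t))` which is trivial on `K₂` is in the vessel of `e` -/
theorem mem_of_DZ (Z₁ : CenF K₁) (Z₂ : CenF K₂) (F₁ : TFacts K₁) (h : Ves A B) (h' : Ves B A) {n : R}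
    (hn : n ∈ A.S) (hd : A.j ⟨n, hn⟩ ∈ DZ A.t) (h1 : B.ρ n = 1) : n ∈ Uz B := by
  obtain ⟨v, hv, hvA, c, hc, he⟩ := exists_of_DZ C.symm Z₂ Z₁ F₁ h' hd
  have h2 : A.j (⟨v, hvA⟩⁻¹ * ⟨n, hn⟩) = c := by
    rw [map_mul, map_inv, inv_mul_eq_iff_eq_mul]; exact he
  have h3 : v⁻¹ * n ∈ Uz A := (mem_Uz A).mpr ⟨mul_mem (inv_mem hvA) hn, by
    have : (⟨v⁻¹ * n, mul_mem (inv_mem hvA) hn⟩ : ↥A.S) = ⟨v, hvA⟩⁻¹ * ⟨n, hn⟩ := rfl
    rw [this, h2]; exact hc⟩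
  have h4 : v⁻¹ * n = 1 := by
    by_contra hne
    refine ρ_ne C h h3 hne ?_
    rw [map_mul, map_inv, ρ_Uz B hv, h1, inv_one, one_mul]
  rw [← inv_mul_eq_one.mp h4]
  exact hv

/-- **the kernel of `A.S` on `K₂` is the vessel of `e`** -/
theorem mem_of_ker (Z₁ : CenF K₁) (Z₂ : CenF K₂) (F₁ : TFacts K₁) (G₁ : CanF K₁) (h : Ves A B)
    (h' : Ves B A) {n : R} (hn : n ∈ A.S) (h1 : B.ρ n = 1) : n ∈ Uz B := by
  have hUA : ∀ v ∈ Uz B, v ∈ A.S := fun v hv => (h' v hv).1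
  obtain ⟨Y, hY⟩ : ∃ Y : Subgroup K₁, Y = ((Uz B).subgroupOf A.S).map A.j := ⟨_, rfl⟩
  have hmY : ∀ v (hv : v ∈ Uz B), A.j ⟨v, hUA v hv⟩ ∈ Y := fun v hv => by
    rw [hY]; exact ⟨⟨v, hUA v hv⟩, hv, rfl⟩
  have hcan : Can A.t := (h' e (z_mem_Uz B)).2 C.e1
  refine mem_of_DZ C Z₁ Z₂ F₁ h h' hn ?_ h1
  refine G₁.line hcan Y ?_ (hmY e (z_mem_Uz B)) ?_ ?_ _ (j_mem_C A C ⟨n, hn⟩) ?_
  · rw [hY]
    rintro _ ⟨⟨v, hvA⟩, hv, rfl⟩
    exact mem_DZ C.symm Z₂ F₁ h' hv hvA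
  · rw [hY, card_map_of_injective A.inj, Nat.card_congr (subgroupOfEquivOfLe hUA).toEquiv, card_Uz B,
      Z₂.card]
  · rw [hY]
    rintro _ ⟨⟨v, hvA⟩, hv, rfl⟩ hne
    refine (h' v hv).2 ?_
    rintro rfl
    exact hne (map_one A.j)
  · intro p hp
    obtain ⟨s, rfl⟩ := A.surj p (mem_centralizer_singleton_iff.mp hp)
    have h2 : ⁅A.j ⟨n, hn⟩, A.j s⁆ = A.j ⁅(⟨n, hn⟩ : ↥A.S), s⁆ := (map_commutatorElement _ _ _).symm
    have h3 : B.ρ (⁅(⟨n, hn⟩ : ↥A.S), s⁆ : ↥A.S) = 1 := by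
      change B.ρ (n * (s : R) * n⁻¹ * (s : R)⁻¹) = 1
      rw [map_mul, map_mul, map_mul, map_inv, map_inv, h1]
      group
    have h4 : ((⁅(⟨n, hn⟩ : ↥A.S), s⁆ : ↥A.S) : R) ∈ Uz B := by
      refine mem_of_DZ C Z₁ Z₂ F₁ h h' (⁅(⟨n, hn⟩ : ↥A.S), s⁆ : ↥A.S).2 ?_ h3
      change A.j ⁅(⟨n, hn⟩ : ↥A.S), s⁆ ∈ _
      rw [← h2]
      exact G₁.class2 A.ht _ (j_mem_C A C _) _ (j_mem_C A C _)
    rw [h2]
    exact hmY _ h4

/-- **`A.S` induces on `K₂` the same group as `B.S`** -/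
theorem exists_same (Z₁ : CenF K₁) (Z₂ : CenF K₂) (F₁ : TFacts K₁) (F₂ : TFacts K₂) (G₁ : CanF K₁)
    (h : Ves A B) (h' : Ves B A) (s : ↥B.S) : ∃ r ∈ A.S, B.ρ r = B.ρ s := by
  let fA : ↥A.S →* MulAut K₂ := B.ρ.comp A.S.subtype
  let fB : ↥B.S →* MulAut K₂ := B.ρ.comp B.S.subtype
  have hUA : ∀ v ∈ Uz B, v ∈ A.S := fun v hv => (h' v hv).1
  have hkA : fA.ker = (Uz B).subgroupOf A.S := by
    ext ⟨n, hn⟩
    exact ⟨fun h1 => mem_of_ker C Z₁ Z₂ F₁ G₁ h h' hn h1, fun h1 => ρ_Uz B h1⟩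
  have hkB : fB.ker = (Uz B).subgroupOf B.S := by
    ext ⟨n, hn⟩
    exact ⟨fun h1 => mem_Uz_of_ρ B hn h1, fun h1 => ρ_Uz B h1⟩
  have cA : Nat.card fA.range * 4 = 256 := by
    have h1 := fA.ker.card_mul_index
    rw [index_ker, hkA, Nat.card_congr (subgroupOfEquivOfLe hUA).toEquiv, card_Uz B, Z₂.card,
      card_S A C, F₁.card A.ht] at h1
    rw [mul_comm]; exact h1
  have cB : Nat.card fB.range * 4 = 256 := by
    have h1 := fB.ker.card_mul_index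
    rw [index_ker, hkB, Nat.card_congr (subgroupOfEquivOfLe (Uz_le B)).toEquiv, card_Uz B, Z₂.card,
      card_S B C.symm, F₂.card B.ht] at h1
    rw [mul_comm]; exact h1
  have hle : fA.range ≤ fB.range := by
    rintro _ ⟨⟨r, hr⟩, rfl⟩
    obtain ⟨s', hs'⟩ := exists_conj C Z₁ Z₂ F₂ h (fun v hv => comm_V C Z₂ F₁ h' hr hv)
      (fun w hw => comm_U C hr hw)
    refine ⟨s', ?_⟩
    change B.ρ s' = B.ρ r
    rw [hs', B.ρ_S]
  have heq : fA.range = fB.range := by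
    have : Finite ↥fB.range := Nat.finite_of_card_ne_zero (by omega)
    exact Subgroup.eq_of_le_of_card_ge hle (by omega)
  have h1 : fB s ∈ fA.range := by rw [heq]; exact ⟨s, rfl⟩
  obtain ⟨⟨r, hr⟩, h2⟩ := h1
  exact ⟨r, hr, h2⟩

/-- **(5.2)** -/
theorem fix_or (Z₁ : CenF K₁) (Z₂ : CenF K₂) (F₁ : TFacts K₁) (F₂ : TFacts K₂) (G₁ : CanF K₁)
    (h : Ves A B) (h' : Ves B A) {x : R} (hx : A.ρ x = 1) : ∃ w ∈ Uz A, B.ρ (x * w) = 1 := by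
  have hxA : ∀ s ∈ A.S, x * s = s * x := fun s hs => comm_of_ρ A hx hs
  obtain ⟨s, hs⟩ := exists_conj C Z₁ Z₂ F₂ h (r := x) (fun v hv => hxA v (h' v hv).1)
    (fun w hw => hxA w (Uz_le A hw))
  -- `B.j s` is central in `C(t)` modulo the centre
  have h1 : ∀ p ∈ centralizer ({B.t} : Set K₂), ⁅p, B.j s⁆ ∈ center K₂ := by
    intro p hp
    obtain ⟨b, rfl⟩ := B.surj p (mem_centralizer_singleton_iff.mp hp)
    obtain ⟨r, hr, hrb⟩ := exists_same C Z₁ Z₂ F₁ F₂ G₁ h h' b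
    have h2 : B.ρ x * B.ρ r = B.ρ r * B.ρ x := by rw [← map_mul, ← map_mul, hxA r hr]
    rw [hs, hrb, B.ρ_S b] at h2
    rw [← Loc.conj_eq_one_iff, commutatorElement_def, map_mul, map_mul, map_mul, map_inv, map_inv, ← h2,
      mul_inv_cancel_right, mul_inv_cancel]
  have h2 : B.j s ∈ DZ B.t := by
    by_contra hne
    have h3 := F₂.cE B.ht _ (j_mem_C B C.symm s) hne (centralizer ({B.t} : Set K₂)) le_rfl h1
    rw [F₂.card B.ht] at h3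
    omega
  obtain ⟨w, hw, hwB, c, hc, he⟩ := exists_of_DZ C Z₁ Z₂ F₂ h h2
  refine ⟨w, hw, ?_⟩
  have hww := Uz_sq C Z₁ hw
  rw [map_mul, hs, he, map_mul, conj_eq_one_iff.mpr hc, mul_one, B.ρ_S ⟨w, hwB⟩, ← map_mul, ← map_mul]
  have : (⟨w, hwB⟩ : ↥B.S) * ⟨w, hwB⟩ = 1 := Subtype.ext hww
  rw [this, map_one, map_one]

end two

end Cfsg.Agent.UGT.I34.FiveC
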