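import Cfsg.Agent.UGT.I34.FiveC.Cen5

/-!
# THEOREM I34, part [C] (`Z = 2²`), (C2)

* `HeF κ`: an involutory automorphism of `He` fixing `z`, of type `f` on `L`, is conjugation by an element of class 2A;
* `HeF.of`: `HeF` from facts inside `He` and `2².L₃(4)`;
* `memC`: `v` an involution of a pair commuting with `u` and the type (0) partner `s ∉ X`, `v` of type `f` on `X`: then
  `s` is a type (0) partner of `v` outside of its component and `v` is in the pump-up.
-/

set_option autoImplicit false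

open Cfsg Subgroup
open Cfsg.Agent.SignalizersComponents Cfsg.Agent.Lib
open Cfsg.Agent.SignalizersComponents.IntrinsicBasic
open Cfsg.Agent.SignalizersComponents.PLayerAut
open Cfsg.Agent.Intrinsic
open Cfsg.Agent.Intrinsic.Basic hiding IsPair PQS Target IsPair.sq IsPair.ne_one IsPair.cj
open Cfsg.Agent.Intrinsic.Cen hiding pair_comm pair_mem_cen exists_pump pump_unique
open Cfsg.Agent.Intrinsic.Quot hiding Big isPair_quot small_or_big
open Cfsg.Agent.McLLyComp.Act hiding mk_eq_one_iff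
open Cfsg.Agent.UGT.I34.Pair Cfsg.Agent.UGT.I34.KAut Cfsg.Agent.UGT.I34.WOne
open Cfsg.Agent.UGT.I34.KF (NInv)
open Cfsg.Agent.UGT.I34.Four
open Cfsg.Agent.UGT.I34.HeP.Bal (AutL)
open scoped commutatorElement

namespace Cfsg.Agent.UGT.I34.FiveC

universe v

/-- an involutory automorphism of `He` fixing `z`, of type `f` on `L`, is conjugation by an element conjugate to `z` -/
def HeF (κ : Kind.{v}) : Prop :=
  ∀ {Y : Type v} [Group Y] [Finite Y] {z : Y} {L : Subgroup Y}, κ.T Y z L → IsPair κ z L →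
    ∀ α : MulAut Y, α * α = 1 → α z = z →
      ∀ {K : Type v} [Group K] [Finite K] (e : K ≃* ↥L) (φ : MulAut K) (J : Subgroup K), TypeF φ J →
        (∀ k : K, α (e k : Y) = (e (φ k) : Y)) →
          ∃ m, m * m = 1 ∧ (∃ g, g * z * g⁻¹ = m) ∧ ∀ y, α y = m * y * m⁻¹

/-- `C(z)` contains an element of type `f` on `L` -/
def HeFEx (κ : Kind.{v}) : Prop :=
  ∀ {Y : Type v} [Group Y] [Finite Y] {z : Y} {L : Subgroup Y}, κ.T Y z L → IsPair κ z L →
    ∀ {K : Type v} [Group K] [Finite K] (e : K ≃* ↥L), ∃ m : Y, m * z = z * m ∧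
      ∃ (φ : MulAut K) (J : Subgroup K), TypeF φ J ∧ ∀ k : K, m * (e k : Y) * m⁻¹ = (e (φ k) : Y)

/-- automorphisms of type `f` of `K` fixing the same central involution differ by an inner automorphism -/
def KFu (κ : Kind.{v}) : Prop :=
  ∀ {K : Type v} [Group K] [Finite K], κ.P K → ∀ (φ ψ : MulAut K) (J J' : Subgroup K), TypeF φ J →
    TypeF ψ J' → ∀ z ∈ Subgroup.center K, z ≠ 1 → φ z = z → ψ z = z →
      ∃ k : K, ∀ x, ψ x = k * φ x * k⁻¹

/-- `HeF` from facts inside `He` and `K` -/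
theorem HeF.of {κ : Kind.{v}} (hX : HeT κ) (A : AutL κ) (hO : HeOut κ) (hEx : HeFEx κ) (hU : KFu κ) :
    HeF κ := by
  intro Y _ _ z L hT hp α hα hαz K _ _ e ψ J' hψ hαψ
  obtain ⟨m, hmz, φ, J, hφ, hmφ⟩ := hEx hT hp e
  -- the central element
  have hcomm : ∀ y ∈ L, y * z = z * y := fun y hy => pair_comm hp hy
  obtain ⟨z', hz'⟩ := e.surjective ⟨z, hp.mem⟩
  have hz'c : z' ∈ Subgroup.center K := by
    rw [mem_center_iff]
    intro g
    apply e.injective
    rw [map_mul, map_mul, hz']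
    exact Subtype.ext (hcomm _ (e g).2)
  have hz'1 : z' ≠ 1 := by
    rintro rfl
    rw [map_one] at hz'
    exact hp.ne_one (congrArg Subtype.val hz').symm
  have hφz : φ z' = z' := by
    apply e.injective
    apply Subtype.ext
    rw [← hmφ z', hz']
    change m * z * m⁻¹ = z
    rw [hmz, mul_inv_cancel_right]
  have hψz : ψ z' = z' := by
    apply e.injective
    apply Subtype.ext
    rw [← hαψ z', hz']
    exact hαz
  have hkK : κ.P K := by
    have h1 : oddCore ↥L = ⊥ := hX.core hT hp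
    have e1 : ↥L ⧸ oddCore ↥L ≃* ↥L :=
      (QuotientGroup.quotientMulEquivOfEq h1).trans QuotientGroup.quotientBot
    exact κ.congr (e1.trans e.symm) hp.kind
  obtain ⟨k, hk⟩ := hU hkK φ ψ J J' hφ hψ z' hz'c hz'1 hφz hψz
  -- `α` and `e k m` agree on `L`
  obtain ⟨c, hcL, hcc, hc⟩ := A hT hp ((MulAut.conj ((e k : Y) * m))⁻¹ * α) (by
    intro l hl
    obtain ⟨x, hx⟩ := e.surjective ⟨l, hl⟩
    have hx' : (e x : Y) = l := congrArg Subtype.val hx
    rw [MulAut.mul_apply, ← hx', hαψ x, hk x, MulAut.conj_inv_apply, map_mul, map_mul, map_inv]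
    change ((e k : Y) * m)⁻¹ * ((e k : Y) * (e (φ x) : Y) * (e k : Y)⁻¹) * ((e k : Y) * m) = e x
    rw [← hmφ x]
    group)
  obtain ⟨n, hn⟩ : ∃ n, n = (e k : Y) * m * c := ⟨_, rfl⟩
  have hαn : ∀ y, α y = n * y * n⁻¹ := by
    intro y
    have h1 := hc y
    rw [MulAut.mul_apply, MulAut.conj_inv_apply] at h1
    have h2 : α y = ((e k : Y) * m) * (((e k : Y) * m)⁻¹ * α y * ((e k : Y) * m)) * ((e k : Y) * m)⁻¹ := by
      group
    rw [h2, h1, hn]
    group
  have hnz : n * z = z * n := by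
    have h1 := hαn z
    rw [hαz, eq_mul_inv_iff_mul_eq] at h1
    exact h1.symm
  have hnn : n * n = 1 := by
    have h1 : n * n ∈ Subgroup.center Y := by
      rw [mem_center_iff]
      intro y
      have h2 : (α * α) y = y := by rw [hα]; rfl
      rw [MulAut.mul_apply, hαn, hαn y] at h2
      have h3 : (n * n) * y * (n * n)⁻¹ = y := by
        calc (n * n) * y * (n * n)⁻¹ = n * (n * y * n⁻¹) * n⁻¹ := by group
          _ = y := h2
      rw [mul_inv_eq_iff_eq_mul] at h3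
      exact h3.symm
    rw [hX.center hT hp, mem_bot] at h1
    exact h1
  have hnL : n ∉ L := by
    intro h1
    obtain ⟨x, hx⟩ := e.surjective ⟨n, h1⟩
    have hx' : (e x : Y) = n := congrArg Subtype.val hx
    apply hψ.out
    refine ⟨x, ?_⟩
    apply MulEquiv.ext
    intro y
    rw [MulAut.conj_apply]
    apply e.injective
    apply Subtype.ext
    rw [← hαψ y, hαn, ← hx']
    simp only [map_mul, map_inv]
    rfl
  obtain ⟨g, hg⟩ := hO.out hT hp n hnn hnz hnL
  exact ⟨n, hnn, ⟨g, hg⟩, hαn⟩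

variable {G : Type v} [Group G] [Finite G] {κ : Kind.{v}} {u t x w s y j v m : G}
  {X Y S M V E : Subgroup G}

/-- `X / O(X) ≃ qs M J` -/
theorem exists_equiv_qs (h : W5 κ G) (hu : IsPair κ u X) (hxx : x * x = 1) (hx : x * u = u * x)
    (hf : Fixes x X) (hb : IsBig κ u X x) :
    ∃ e : (↥X ⧸ oddCore ↥X) ≃* ↥(qs (pump x X) (cen X x)), ∀ (a : G) (haJ : a ∈ cen X x) (haX : a ∈ X),
      (e (QuotientGroup.mk ⟨a, haX⟩) : ↥(pump x X) ⧸ oddCore ↥(pump x X)) =
        QuotientGroup.mk ⟨a, cen_le_pump hu hxx hx hf haJ⟩ := by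
  obtain ⟨huM, hTT, hp⟩ := big_pair hu hxx hx hf hb
  have hsup := (isComp_cen hu.comp (mem_centralizer_singleton_iff.mpr hx) hxx hf).2
  have hle := cen_le_pump hu hxx hx hf
  obtain ⟨e1, he1⟩ := exists_quotEquiv hsup
  obtain ⟨e2, he2⟩ := exists_qs_equiv hle
  have h1 : oddCore ↥(qs (pump x X) (cen X x)) = ⊥ := h.w.sett.he.core hTT hp
  let e3 : ↥(qs (pump x X) (cen X x)) ⧸ oddCore ↥(qs (pump x X) (cen X x)) ≃*
      ↥(qs (pump x X) (cen X x)) :=
    (QuotientGroup.quotientMulEquivOfEq h1).trans QuotientGroup.quotientBot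
  refine ⟨(e1.symm.trans e2).trans e3, fun a haJ haX => ?_⟩
  have h2 : e1.symm (QuotientGroup.mk ⟨a, haX⟩) = QuotientGroup.mk ⟨a, haJ⟩ := by
    rw [MulEquiv.symm_apply_eq, he1 a haJ haX]
  have h3 : ((e1.symm.trans e2).trans e3) (QuotientGroup.mk ⟨a, haX⟩) =
      e3 (e2 (e1.symm (QuotientGroup.mk ⟨a, haX⟩))) := rfl
  rw [h3, h2, he2 a haJ]
  rfl

/-- **(C2)** -/
theorem memC (h : W5 κ G) (A : AutL κ) (F : HeF κ) (hu : IsPair κ u X) (hs : IsPair κ s S)
    (hsu : s * u = u * s) (hsf : Fixes s X) (hsX : s ∉ X) (hv : IsPair κ v Y) (hvu : v * u = u * v)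
    (hvs : v * s = s * v) (hvX : v ∉ X) (hvf : ¬ Fixes v X) :
    Fixes s Y ∧ s ∉ Y ∧ v ∈ pump s X := by
  have hb := isBig_of_pair h hu hs hsu hsf hsX
  obtain ⟨ho, J, hJ⟩ := ((h.w.tri hu hv hvu.symm).resolve_left hvf).resolve_left
    fun ⟨h1, _⟩ => hvX h1
  obtain ⟨huM, hTT, hp⟩ := big_pair hu hs.sq hsu hsf hb
  have hM := pump_comp hu hs.sq hsu hsf
  have hvM : v ∈ normalizer (pump s X : Set G) := mem_normalizer_pump hu hs.sq hsu hsf ho.1 hvs
  have hsup := (isComp_cen hu.comp (mem_centralizer_singleton_iff.mpr hsu) hs.sq hsf).2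
  obtain ⟨e, he⟩ := exists_equiv_qs h hu hs.sq hsu hsf hb
  have hαα : act (pump s X) ⟨v, hvM⟩ * act (pump s X) ⟨v, hvM⟩ = 1 := by
    rw [← map_mul]
    have : (⟨v, hvM⟩ : ↥(normalizer (pump s X : Set G))) * ⟨v, hvM⟩ = 1 := Subtype.ext hv.sq
    rw [this, map_one]
  obtain ⟨m', hm'2, hm'c, hα⟩ := F hTT hp (act (pump s X) ⟨v, hvM⟩) hαα (by
    rw [act_mk hvM huM]
    congr 1
    exact Subtype.ext (by
      change v * u * v⁻¹ = u
      rw [hvu, mul_inv_cancel_right])) e (act X ⟨v, ho.1⟩) J hJ (by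
    intro k
    obtain ⟨⟨k, hk⟩, rfl⟩ := QuotientGroup.mk_surjective k
    obtain ⟨a, ha, hak⟩ := exists_mul_of_sup hsup hk
    have haX := cen_le X s ha
    have e1 : (QuotientGroup.mk ⟨k, hk⟩ : ↥X ⧸ oddCore ↥X) = QuotientGroup.mk ⟨a, haX⟩ :=
      ((mk_eq_iff haX hk).mpr hak).symm
    have hvJ : v ∈ normalizer (cen X s : Set G) := mem_normalizer_cen ho.1 hvs
    have hva : v * a * v⁻¹ ∈ cen X s := conj_mem hvJ ha
    rw [e1, act_mk ho.1 haX, he a ha haX, he _ hva (conj_mem ho.1 haX), act_mk hvM])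
  -- the involution `m`
  have hP := isPGroup_two hv.sq hv.sq rfl
  have hvP : v ∈ closure ({v, v} : Set G) := subset_closure (Or.inl rfl)
  have hPM : closure ({v, v} : Set G) ≤ normalizer (pump s X : Set G) := by
    rw [closure_le]
    rintro a (rfl | rfl) <;> exact hvM
  obtain ⟨m, hmM, hmm, hmP, hmk⟩ := exists_lift_group hP hPM (x := m') (by
    have key : closure ({v, v} : Set G) ≤
        ((MulAction.stabilizer (MulAut (↥(pump s X) ⧸ oddCore ↥(pump s X))) m').comap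
          (act (pump s X))).map (normalizer (pump s X : Set G)).subtype := by
      rw [closure_le]
      rintro x (rfl | rfl) <;>
      · refine ⟨⟨x, hvM⟩, ?_, rfl⟩
        change act (pump s X) ⟨x, hvM⟩ m' = m'
        rw [hα, mul_inv_cancel_right]
    intro p hp
    obtain ⟨q, hq, hqp⟩ := key hp
    have : (⟨p, hPM hp⟩ : ↥(normalizer (pump s X : Set G))) = q := Subtype.ext hqp.symm
    rw [this]
    exact hq) hm'2
  have hvm : v * m = m * v := hmP v hvP
  obtain ⟨g, hgM, hg⟩ := exists_conj_of_mk huM hmM hu.sq hmm (hmk ▸ hm'c)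
  have hgs : g * s = s * g := mem_centralizer_singleton_iff.mp (hM.le hgM)
  have hgs' : g * s * g⁻¹ = s := by rw [hgs, mul_inv_cancel_right]
  -- the pair `(m, X ^ g)`
  have hm : IsPair κ m (cj g X) := pair_conj hu hg
  have hms : m * s = s * m := mem_centralizer_singleton_iff.mp (hM.le hmM)
  have hsm : Fixes s (cj g X) := by
    have := hsf.cj g
    rwa [hgs'] at this
  have hsXm : s ∉ cj g X := by
    intro h1
    apply hsX
    rw [mem_cj] at h1
    have : g⁻¹ * s * g = s := by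
      rw [mul_assoc, ← hgs, inv_mul_cancel_left]
    rwa [this] at h1
  have hpump : pump s (cj g X) = pump s X := by
    have h2 := cj_pump hu hs.sq hsu hsf g
    rwa [hgs', cj_eq_self_of_mem hgM] at h2
  have hbm : IsBig κ m (cj g X) s := isBig_of_pair h hm hs hms.symm hsm hsXm
  -- `v m` fixes `M`
  have hvmM : v * m ∈ normalizer (pump s X : Set G) := mul_mem hvM (le_normalizer hmM)
  have hfix : Fixes (v * m) (pump s X) := by
    rw [← act_eq_one_iff hvmM]
    apply MulEquiv.ext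
    intro y
    have e4 : act (pump s X) ⟨v * m, hvmM⟩ =
        act (pump s X) ⟨v, hvM⟩ * act (pump s X) ⟨m, le_normalizer hmM⟩ := by
      rw [← map_mul]
      rfl
    obtain ⟨⟨y, hy⟩, rfl⟩ := QuotientGroup.mk_surjective y
    have e5 : act (pump s X) ⟨m, le_normalizer hmM⟩ (QuotientGroup.mk ⟨y, hy⟩) =
        QuotientGroup.mk ⟨m, hmM⟩ * QuotientGroup.mk ⟨y, hy⟩ * (QuotientGroup.mk ⟨m, hmM⟩)⁻¹ := rfl
    have e6 : (QuotientGroup.mk ⟨m, hmM⟩ : ↥(pump s X) ⧸ oddCore ↥(pump s X)) *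
        QuotientGroup.mk ⟨m, hmM⟩ = 1 := mk_sq_one hmM hmm
    have e7 : (QuotientGroup.mk ⟨m, hmM⟩ : ↥(pump s X) ⧸ oddCore ↥(pump s X))⁻¹ =
        QuotientGroup.mk ⟨m, hmM⟩ := inv_eq_of_mul_eq_one_left e6
    rw [e4, MulAut.mul_apply, e5, hα, ← hmk, e7, MulAut.one_apply]
    generalize (QuotientGroup.mk ⟨m, hmM⟩ : ↥(pump s X) ⧸ oddCore ↥(pump s X)) = q at *
    calc q * (q * QuotientGroup.mk ⟨y, hy⟩ * q) * q = (q * q) * QuotientGroup.mk ⟨y, hy⟩ * (q * q) := by
          group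
      _ = _ := by rw [e6, one_mul, mul_one]
  have hvms : (v * m) * s = s * (v * m) := comm_mul hvs hms
  have hvmm : (v * m) * m = m * (v * m) := by rw [mul_assoc, hmm, mul_one, ← mul_assoc, ← hvm,
    mul_assoc, hmm, mul_one]
  have h1 : Fixes (v * m) (cj g X) := by
    refine fixes_of_pump hm hs.sq hms.symm hsm (h.norm hm hvmm) hvms ?_
    rw [hpump]
    exact hfix
  have hvXm : Fixes v (cj g X) := by
    have h2 : v = (v * m) * m := by rw [mul_assoc, hmm, mul_one]
    rw [h2]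
    exact fixes_mul h1 (pair_fixes hm)
  have hbnf : ∀ {a : G}, a ∈ pump s X → a * a = 1 → a ≠ 1 → ¬ Fixes a (pump s X) :=
    fun ha haa ha1 => big_nf h hu hs.sq hsu hsf hb ha haa ha1
  have hvmm1 : (v * m) * (v * m) = 1 := mul_sq hv.sq hmm hvm
  by_cases hvXm' : v ∈ cj g X
  · have hvM' : v ∈ pump s X := by
      rw [← hpump]
      exact mem_pump_of_mem hm hs.sq hms.symm hsm hvXm' hvs (k := 1) (by rw [pow_one, pow_two, hv.sq])
    have hvm1 : v * m = 1 := by
      by_contra hne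
      exact hbnf (mul_mem hvM' hmM) hvmm1 hne hfix
    have hvm' : v = m := by
      rw [eq_inv_of_mul_eq_one_left hvm1, inv_eq_of_mul_eq_one_left hmm]
    have hY : Y = cj g X := h.one hm (hvm' ▸ hv)
    rw [hY]
    exact ⟨hsm, hsXm, hvM'⟩
  · exfalso
    have h2 := cen5 h A hm hs hms.symm hsm hsXm hv hvm hvXm hvXm' hvs.symm
    rw [hpump] at h2
    exact hbnf hmM hmm hm.ne_one ((fixes_mul_iff_right h2).mp hfix)

end Cfsg.Agent.UGT.I34.FiveC
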