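import Cfsg.Agent.UGT.I34.FiveC.MemC
import Cfsg.Agent.UGT.I34.HeP.OfSW

/-!
# THEOREM I34, part [C] (`Z = 2²`): (5.5) in the form of the records `SW` and `Rest`

`D` a set of involutions of pairs, `L u` the component of `u ∈ D`.
-/

set_option autoImplicit false

open Cfsg Subgroup
open Cfsg.Agent.SignalizersComponents Cfsg.Agent.Lib
open Cfsg.Agent.SignalizersComponents.IntrinsicBasic
open Cfsg.Agent.SignalizersComponents.PLayerAut
open Cfsg.Agent.Intrinsic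
open Cfsg.Agent.Intrinsic.Basic hiding IsPair PQS Target IsPair.sq IsPair.ne_one IsPair.cj
open Cfsg.Agent.Intrinsic.WOneA (Ce OC)
open Cfsg.Agent.UGT.I34.Pair Cfsg.Agent.UGT.I34.KAut Cfsg.Agent.UGT.I34.WOne
open Cfsg.Agent.UGT.I34.Four Cfsg.Agent.UGT.I34.HeP
open Cfsg.Agent.UGT.I34.HeP.Bal (AutL)

namespace Cfsg.Agent.UGT.I34.FiveC

universe v

variable {G : Type v} [Group G] [Finite G] {κ : Kind.{v}} {D : Set G} {L : G → Subgroup G} {u s : G}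

theorem mem_K_iff (hp : ∀ {u : G}, u ∈ D → IsPair κ u (L u)) (hu : u ∈ D) {x : G} :
    x ∈ cenMod (Ce u) (L u) ↔ x * u = u * x ∧ Fixes x (L u) := by
  constructor
  · intro hx
    have h1 := cenMod_le _ _ hx
    exact ⟨mem_centralizer_singleton_iff.mp h1, ((hp hu).comp.fixes_iff h1).mpr hx⟩
  · rintro ⟨h1, h2⟩
    exact ((hp hu).comp.fixes_iff (mem_centralizer_singleton_iff.mpr h1)).mp h2

variable (h : W5 κ G) (hp : ∀ {u : G}, u ∈ D → IsPair κ u (L u))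

include h hp

/-- `Rest.isBig` -/
theorem isBig_ZP : ∀ u s : G, ZP D L u s → IsBig κ u (L u) s := by
  intro u s hZ
  obtain ⟨h1, h2⟩ := (mem_K_iff hp hZ.left).mp hZ.mem
  exact isBig_of_pair h (hp hZ.left) (hp hZ.right) h1 h2 hZ.nmem

/-- `SW.prod` -/
theorem prod_ZP {u s : G} (hZ : ZP D L u s) : u * s ∉ D := by
  intro hD
  obtain ⟨h1, h2⟩ := (mem_K_iff hp hZ.left).mp hZ.mem
  have hu := hp hZ.left
  have h3 := hp hD
  rw [← h1] at h3
  exact prod h hu (hp hZ.right) h1 h2 hZ.nmem hu.mem hu.sq hu.ne_one (pair_fixes hu) h1.symm h3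

/-- `SW.cls` -/
theorem cls_ZP (F : HeTwo κ) : ∀ {u x t : G}, u ∈ D → x * x = 1 → x ≠ 1 → x * u = u * x →
    Fixes x (L u) → IsBig κ u (L u) x → t ∈ D → t ∈ pump x (L u) →
      ∃ g ∈ pump x (L u), g * u * g⁻¹ = t := by
  intro u x t hu hxx _ hx hf hb ht htM
  exact cls h F (hp hu) hxx hx hf hb (hp ht) htM

/-- `Rest.cen5` -/
theorem cen5_ZP (A : AutL κ) : ∀ u s : G, ZP D L u s → ∀ j : G, ZP D L u j → Commute s j →
    j ∈ cenMod (Ce s) (pump s (L u)) := by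
  intro u s hZ j hZ' hsj
  obtain ⟨h1, h2⟩ := (mem_K_iff hp hZ.left).mp hZ.mem
  obtain ⟨h3, h4⟩ := (mem_K_iff hp hZ'.left).mp hZ'.mem
  have hu := hp hZ.left
  have hs := hp hZ.right
  have h5 := cen5 h A hu hs h1 h2 hZ.nmem (hp hZ'.right) h3 h4 hZ'.nmem hsj.eq
  have h6 := pump_comp hu hs.sq h1 h2
  exact (h6.fixes_iff (mem_centralizer_singleton_iff.mpr hsj.eq.symm)).mp h5

/-- `Rest.memC` -/
theorem memC_ZP (A : AutL κ) (F : HeF κ) : ∀ u s : G, ZP D L u s → ∀ v ∈ D, Commute v u →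
    Commute v s → v ∉ L u → v ∉ cenMod (Ce u) (L u) → ZP D L v s ∧ v ∈ pump s (L u) := by
  intro u s hZ v hv hvu hvs hvL hvK
  obtain ⟨h1, h2⟩ := (mem_K_iff hp hZ.left).mp hZ.mem
  obtain ⟨h3, h4, h5⟩ := memC h A F (hp hZ.left) (hp hZ.right) h1 h2 hZ.nmem (hp hv) hvu.eq hvs.eq hvL
    fun hf => hvK ((mem_K_iff hp hZ.left).mpr ⟨hvu.eq, hf⟩)
  exact ⟨⟨hv, hZ.right, (mem_K_iff hp hv).mpr ⟨hvs.eq.symm, h3⟩, h4⟩, h5⟩

end Cfsg.Agent.UGT.I34.FiveC
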